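import Cfsg.Agent.Lib.AllAb.False3
import Cfsg.Agent.Lib.Walter3.CaseSplit
import Cfsg.Agent.Lib.WalterBig.Setting
import Cfsg.Agent.S1644
import Cfsg.Agent.S0252
import Cfsg.Agent.S0253
import Cfsg.Agent.S3188

/-!
# Simple groups all of whose Sylow subgroups are abelian

They are `J₁` or `PSL₂(q)`, given the theorem on large Sylow two-subgroups (`BigClause`) and the
structure of the nonsolvable involution centralizers (`Walter3.CentClause`).
-/

set_option autoImplicit false
set_option linter.style.haveILetI false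

namespace Cfsg.Lib.AllAb

open Subgroup Cfsg Matrix
open Cfsg.Lib

universe u

/-- Large or non-elementary abelian Sylow two-subgroups. -/
def BigClause (G : Type u) [Group G] : Prop :=
  ∀ S : Sylow 2 G, IsMulCommutative (S : Subgroup G) →
    (16 ≤ Nat.card (S : Subgroup G) ∨ ∃ x ∈ (S : Subgroup G), x * x ≠ 1) → WalterBig.IsPSLTwoPow G

/-- The conclusion. -/
def AllAbConcl (G : Type u) [Group G] : Prop :=
  Cfsg.Spor.IsoJ1 G ∨
    ∃ (F : Type) (_ : Field F) (_ : Fintype F), 3 < Fintype.card F ∧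
      (Fintype.card F % 8 = 0 ∨ Fintype.card F % 8 = 3 ∨ Fintype.card F % 8 = 5) ∧
      Nonempty (G ≃* ProjectiveSpecialLinearGroup (Fin 2) F)

theorem concl_of_psl {G : Type u} [Group G] {F : Type} [Field F] [Fintype F]
    (hq : ((Fintype.card F % 8 = 3 ∨ Fintype.card F % 8 = 5) ∧ 5 ≤ Fintype.card F) ∨
      ∃ n : ℕ, 2 ≤ n ∧ Fintype.card F = 2 ^ n)
    (f : G ≃* ProjectiveSpecialLinearGroup (Fin 2) F) : AllAbConcl G := by
  right
  rcases hq with ⟨h, h5⟩ | ⟨n, hn, hF⟩
  · exact ⟨F, inferInstance, inferInstance, by omega, Or.inr h, ⟨f⟩⟩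
  rcases eq_or_lt_of_le hn with rfl | h3
  · haveI : Fact (Nat.Prime 5) := ⟨by norm_num⟩
    obtain ⟨a⟩ := Cfsg.Agent.S0252.result (F := F) hF
    obtain ⟨b⟩ := Cfsg.Agent.S0253.result (F := ZMod 5) (ZMod.card 5)
    exact ⟨ZMod 5, inferInstance, inferInstance, by rw [ZMod.card]; norm_num,
      Or.inr (Or.inr (by rw [ZMod.card])), ⟨(f.trans a).trans b.symm⟩⟩
  · have h8 : 2 ^ 3 ∣ 2 ^ n := pow_dvd_pow 2 h3
    refine ⟨F, inferInstance, inferInstance, ?_, Or.inl (by omega), ⟨f⟩⟩
    have : 2 ^ 2 ≤ 2 ^ n := Nat.pow_le_pow_right two_pos hn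
    omega

variable {G : Type u} [Group G] [Finite G]

/-- All involution centralizers solvable. -/
theorem of_solvable [IsSimpleGroup G] (hna : ¬ IsMulCommutative G) (T : Sylow 2 G)
    (hT : IsMulCommutative (T : Subgroup G))
    (hC : ∀ t : G, orderOf t = 2 → Group.IsSolvable ↥(centralizer ({t} : Set G))) : AllAbConcl G := by
  have hns : ¬ Group.IsSolvable G := fun h => hna ⟨⟨IsSimpleGroup.comm_iff_isSolvable.2 h⟩⟩
  rcases Cfsg.Agent.S3188.result T hT hC with h | ⟨F, i, j, hq, N, hN, ⟨e⟩, -⟩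
  · exact absurd h hns
  have hO : oddCore G = ⊥ := by
    refine (IsSimpleGroup.eq_bot_or_eq_top_of_normal (oddCore G) inferInstance).resolve_right fun h => ?_
    have h1 := Cfsg.Lib.AbTwo.odd_oddCore (G := G)
    rw [h, card_top] at h1
    exact hns (Cfsg.Agent.S0205.result h1)
  let f : G ≃* G ⧸ oddCore G := ((QuotientGroup.quotientMulEquivOfEq hO).trans
    QuotientGroup.quotientBot).symm
  haveI : Nontrivial (G ⧸ oddCore G) := f.toEquiv.symm.nontrivial
  haveI : IsSimpleGroup (G ⧸ oddCore G) :=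
    IsSimpleGroup.isSimpleGroup_of_surjective f.toMonoidHom f.surjective
  have hN' : N = ⊤ := by
    refine (IsSimpleGroup.eq_bot_or_eq_top_of_normal N hN).resolve_left fun h => ?_
    subst h
    have h1 := Nat.card_congr e.toEquiv
    rw [card_bot] at h1
    have h2 := Cfsg.Lib.Linear.Two.card_PSL_two (F := F)
    rw [← h1, mul_one] at h2
    have h4 : 4 ≤ Fintype.card F := by
      rcases hq with ⟨-, h⟩ | ⟨n, hn, h⟩
      · omega
      · rw [h]; exact (Nat.pow_le_pow_right two_pos hn)
    have h3 : Nat.gcd 2 (Fintype.card F - 1) ≤ 2 := Nat.le_of_dvd two_pos (Nat.gcd_dvd_left _ _)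
    have h5 : 15 ≤ Fintype.card F ^ 2 - 1 := by
      have : 16 ≤ Fintype.card F ^ 2 := by nlinarith
      omega
    nlinarith
  exact concl_of_psl hq ((f.trans ((MulEquiv.subgroupCongr hN').trans Subgroup.topEquiv).symm).trans e)

/-- An abelian Sylow subgroup of order at most four gives solvable involution centralizers. -/
theorem solvable_cent_of_small (S : Sylow 2 G) [IsMulCommutative (S : Subgroup G)]
    (h4 : Nat.card (S : Subgroup G) ≤ 4) {t : G} (htS : t ∈ (S : Subgroup G)) (ht : orderOf t = 2) :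
    Group.IsSolvable ↥(centralizer ({t} : Set G)) := by
  classical
  haveI : Fact (Nat.Prime 2) := ⟨Nat.prime_two⟩
  set C := centralizer ({t} : Set G)
  have hcm : ∀ a ∈ (S : Subgroup G), ∀ b ∈ (S : Subgroup G), a * b = b * a := fun a ha b hb =>
    congrArg Subtype.val (IsMulCommutative.is_comm.comm (⟨a, ha⟩ : (S : Subgroup G)) ⟨b, hb⟩)
  have hSC : (S : Subgroup G) ≤ C := fun s hs => mem_centralizer_singleton_iff.2 (hcm s hs t htS)
  let T : Sylow 2 C := S.subtype hSC
  haveI : IsMulCommutative (T : Subgroup C) := ⟨⟨fun a b => Subtype.ext (Subtype.ext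
    (hcm _ a.2 _ b.2))⟩⟩
  have hT4 : Nat.card (T : Subgroup C) ≤ 4 :=
    le_trans (Nat.card_le_card_of_injective (fun a => (⟨(a : C), a.2⟩ : (S : Subgroup G)))
      fun a b h => Subtype.ext (Subtype.ext (congrArg Subtype.val h :))) h4
  set t' : C := ⟨t, hSC htS⟩
  have htT : t' ∈ (T : Subgroup C) := htS
  have ht2 : t' * t' = 1 := Subtype.ext (by rw [Subgroup.coe_mul]; exact (sq t).symm.trans (ht ▸ pow_orderOf_eq_one t))
  have ht1 : t' ≠ 1 := fun h => by
    rw [show t = 1 from congrArg Subtype.val h, orderOf_one] at ht; omega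
  have htc : ∀ x : C, x * t' = t' * x := fun x => Subtype.ext (mem_centralizer_singleton_iff.1 x.2)
  have hTc : ∀ a ∈ (T : Subgroup C), ∀ b ∈ (T : Subgroup C), a * b = b * a := fun a ha b hb =>
    congrArg Subtype.val (IsMulCommutative.is_comm.comm (⟨a, ha⟩ : (T : Subgroup C)) ⟨b, hb⟩)
  have hNC : normalizer ((T : Subgroup C) : Set C) ≤ centralizer ((T : Subgroup C) : Set C) := by
    intro n hn
    rw [mem_centralizer_iff]
    intro c hc
    by_cases hc1 : c = 1
    · rw [hc1, one_mul, mul_one]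
    by_cases hct : c = t'
    · rw [hct, htc]
    have hy : n * c * n⁻¹ ∈ (T : Subgroup C) := (mem_normalizer_iff.1 hn c).1 hc
    -- the four elements
    have hall : ∀ y ∈ (T : Subgroup C), y = 1 ∨ y = t' ∨ y = c ∨ y = t' * c := by
      intro y hy
      by_contra hne
      push Not at hne
      haveI := Fintype.ofFinite (T : Subgroup C)
      have htc1 : t' * c ≠ 1 := fun h => hct (mul_left_cancel (h.trans ht2.symm))
      have : 5 ≤ Nat.card (T : Subgroup C) := by
        rw [Nat.card_eq_fintype_card]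
        refine le_trans (le_of_eq ?_) (Finset.card_le_univ
          ({1, ⟨t', htT⟩, ⟨c, hc⟩, ⟨t' * c, mul_mem htT hc⟩, ⟨y, hy⟩} : Finset (T : Subgroup C)))
        have e1 : t' * c ≠ t' := fun h => hc1 (mul_left_cancel (h.trans (mul_one t').symm))
        have e2 : t' * c ≠ c := fun h => ht1 (mul_right_cancel (h.trans (one_mul c).symm))
        simp [Subtype.ext_iff, Ne.symm ht1, Ne.symm hc1, Ne.symm htc1, Ne.symm hct, Ne.symm e1,
          Ne.symm e2, Ne.symm hne.1, Ne.symm hne.2.1, Ne.symm hne.2.2.1, Ne.symm hne.2.2.2]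
      omega
    rcases hall _ hy with h | h | h | h
    · exact absurd (conj_eq_one_iff.1 h) hc1
    · exact absurd (mul_left_cancel ((mul_inv_eq_iff_eq_mul.1 h).trans (htc n).symm)) hct
    · exact ((mul_inv_eq_iff_eq_mul.1 h)).symm
    · -- conjugation swaps two elements, and an odd power fixes them
      have h' : n * c = t' * c * n := mul_inv_eq_iff_eq_mul.1 h
      have h2 : Commute (n * n) c := by
        calc n * n * c = n * (n * c) := mul_assoc _ _ _
          _ = n * t' * c * n := by rw [h']; group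
          _ = t' * (n * c) * n := by rw [htc]; group
          _ = t' * t' * c * (n * n) := by rw [h']; group
          _ = c * (n * n) := by rw [ht2, one_mul]
      set N := normalizer ((T : Subgroup C) : Set C)
      haveI : ((T : Subgroup C).subgroupOf N).Normal := Subgroup.normal_in_normalizer
      set k := ((T : Subgroup C).subgroupOf N).index
      have hk : Odd k := by
        rw [Nat.odd_iff]
        have h3 := (T.subtype (le_normalizer : (T : Subgroup C) ≤ N)).not_dvd_index
        exact Nat.two_dvd_ne_zero.1 h3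
      have hm : n ^ k ∈ (T : Subgroup C) :=
        Subgroup.pow_index_mem ((T : Subgroup C).subgroupOf N) (⟨n, hn⟩ : N)
      obtain ⟨j, hj⟩ := hk
      have h5 : Commute (n ^ k) c := hTc _ hm c hc
      rw [show n = ((n * n) ^ j)⁻¹ * n ^ k by rw [hj, pow_succ, pow_mul, sq, inv_mul_cancel_left]]
      exact ((h2.pow_left j).inv_left.mul_left h5).symm
  obtain ⟨P, K, hKn, hK⟩ :=
    Cfsg.Lib.Fusion.hasNormalPComplement_of_normalizer_le_centralizer T hNC
  haveI := hKn
  have hKodd : Odd (Nat.card K) := by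
    rw [Nat.odd_iff, ← hK.index_eq_card]
    have := P.not_dvd_index
    omega
  haveI : Group.IsSolvable K := Cfsg.Agent.S0205.result hKodd
  have hq : IsPGroup 2 (C ⧸ K) := by
    obtain ⟨n, hn⟩ := IsPGroup.iff_card.1 P.2
    exact IsPGroup.of_card (n := n)
      (by rw [← hn, ← Subgroup.index_eq_card]; exact hK.symm.index_eq_card)
  haveI : Group.IsNilpotent (C ⧸ K) := hq.isNilpotent
  exact Group.isSolvable_of_ker_le_range K.subtype (QuotientGroup.mk' K) (by simp)

/-- **Simple groups with all Sylow subgroups abelian.** -/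
theorem allAb_concl_of [IsSimpleGroup G] (hna : ¬ IsMulCommutative G)
    (hA : ∀ (p : ℕ), p.Prime → ∀ (P : Sylow p G), IsMulCommutative ↥P)
    (hBig : BigClause G) (hW : Walter3.CentClause G) : AllAbConcl G := by
  classical
  haveI : Fact (Nat.Prime 2) := ⟨Nat.prime_two⟩
  let T : Sylow 2 G := default
  haveI hT : IsMulCommutative (T : Subgroup G) := hA 2 Nat.prime_two T
  by_cases hbig : 16 ≤ Nat.card (T : Subgroup G) ∨ ∃ x ∈ (T : Subgroup G), x * x ≠ 1
  · obtain ⟨a, F, i, j, ha, hF, ⟨f⟩⟩ := hBig T hT hbig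
    exact concl_of_psl (Or.inr ⟨a, ha, hF⟩) f
  push Not at hbig
  obtain ⟨hlt, helem⟩ := hbig
  have hel : IsElementaryAbelian 2 (T : Subgroup G) := ⟨hT, fun y hy => by rw [pow_two]; exact helem y hy⟩
  by_cases hC : ∀ t : G, orderOf t = 2 → Group.IsSolvable ↥(centralizer ({t} : Set G))
  · exact of_solvable hna T hT hC
  push Not at hC
  obtain ⟨t, ht, hns⟩ := hC
  -- a nonsolvable centralizer of an involution of `T`
  obtain ⟨P, hP⟩ := (IsPGroup.of_card (n := 1) (by rw [Nat.card_zpowers, ht, pow_one]) :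
    IsPGroup 2 (zpowers t)).exists_le_sylow
  obtain ⟨g, hg⟩ := MulAction.exists_smul_eq G P T
  set s := g * t * g⁻¹ with hs
  have hsT : s ∈ (T : Subgroup G) := by
    rw [← hg, Sylow.coe_subgroup_smul]
    exact ⟨t, hP (mem_zpowers t), rfl⟩
  have hs2 : orderOf s = 2 := by
    rw [hs, show g * t * g⁻¹ = MulAut.conj g t from rfl, MulEquiv.orderOf_eq, ht]
  have hnss : ¬ Group.IsSolvable ↥(centralizer ({s} : Set G)) := fun h => hns <| by
    have hmap : (centralizer ({t} : Set G)).map (MulAut.conj g).toMonoidHom ≤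
        centralizer ({s} : Set G) := by
      rintro _ ⟨c, hc, rfl⟩
      rw [mem_centralizer_singleton_iff]
      show g * c * g⁻¹ * s = s * (g * c * g⁻¹)
      have hc' : c * t = t * c := mem_centralizer_singleton_iff.1 hc
      rw [hs]
      calc g * c * g⁻¹ * (g * t * g⁻¹) = g * (c * t) * g⁻¹ := by group
        _ = _ := by rw [hc']; group
    haveI := h
    exact Group.isSolvable_of_isSolvable_injective (f := (inclusion hmap).comp
      (equivMapOfInjective _ _ (MulAut.conj g).injective).toMonoidHom)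
      ((inclusion_injective hmap).comp (MulEquiv.injective _))
  have h8 : Nat.card (T : Subgroup G) = 8 := by
    obtain ⟨k, hk⟩ := IsPGroup.iff_card.1 T.2
    rw [hk] at hlt ⊢
    have h3 : k = 3 := by
      by_contra hne
      refine hnss (solvable_cent_of_small T ?_ hsT hs2)
      rw [hk]
      have hk4 : k < 4 := (Nat.pow_lt_pow_iff_right (by norm_num)).1 (show 2 ^ k < 2 ^ 4 from hlt)
      exact le_trans (Nat.pow_le_pow_right two_pos (show k ≤ 2 by omega)) (by norm_num)
    rw [h3]; norm_num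
  have hs1 : s ≠ 1 := fun h => by rw [h, orderOf_one] at hs2; omega
  obtain ⟨k, hk⟩ := E8Cent.seven_dvd_automizer hna h8 hel
  have h21 := E8Cent.card_automizer_dvd h8 hel
  rw [hk] at h21
  rcases (Nat.dvd_prime Nat.prime_three).1 (Nat.dvd_of_mul_dvd_mul_left (by norm_num : 0 < 7)
      (show 7 * k ∣ 7 * 3 from h21)) with rfl | rfl
  · exact absurd (Walter3.solvable_of_seven T h8 hel hk hsT hs1) hnss
  obtain ⟨F, i, j, h3, ⟨e⟩⟩ := hW T h8 hel hk s hs2 hsT hnss
  have hab : ∀ P : Sylow 2 G, ∀ a b : P, a * b = b * a := fun P a b =>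
    (hA 2 Nat.prime_two P).is_comm.comm a b
  rcases Walter8.main_data hab h3 s hs2 e with ⟨m, hm, hF, hord, χ, hχ⟩ | ⟨h45, -⟩
  · refine (false_of_ree hna hm hF hs2 ?_ e hord χ hχ fun P a ha b hb =>
      congrArg Subtype.val ((hA 3 Nat.prime_three P).is_comm.comm (⟨a, ha⟩ : P) ⟨b, hb⟩)).elim
    have hle : (T : Subgroup G) ≤ centralizer ({s} : Set G) := fun x hx =>
      mem_centralizer_singleton_iff.2 (congrArg Subtype.val
        (hT.is_comm.comm (⟨x, hx⟩ : (T : Subgroup G)) ⟨s, hsT⟩))
    rw [Nat.odd_iff]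
    by_contra h
    exact T.not_dvd_index ((Nat.dvd_of_mod_eq_zero (by omega)).trans (index_dvd_of_le hle))
  · obtain ⟨ψ⟩ : Nonempty (ProjectiveSpecialLinearGroup (Fin 2) F ≃* alternatingGroup (Fin 5)) :=
      h45.elim Cfsg.Agent.S0252.result Cfsg.Agent.S0253.result
    exact Or.inl (Cfsg.Agent.S1644.result T hT h8 s hs2 (e.trans ((MulEquiv.refl _).prodCongr ψ)))

end Cfsg.Lib.AllAb
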