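import Cfsg.Agent.Lib.Linear.AutPSL.Out
import Cfsg.Agent.Lib.Linear.AutPSL.FieldCentralizer
import Cfsg.Agent.Lib.Dickson.Orders
import Cfsg.Agent.Lib.Spec.PSLTwoSpectrum
import Cfsg.Agent.Lib.AllAb.Main
import Cfsg.Agent.Lib.J1.Outer
import Cfsg.Agent.Lib.Dickson.Existence

/-!
# Automorphisms of prime power order fixing a Sylow subgroup of that prime
-/

set_option autoImplicit false
set_option linter.unusedSectionVars false
set_option linter.style.haveILetI false

namespace Cfsg.Lib.AllAb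

open Subgroup Cfsg Matrix
open Cfsg.Lib.Linear.AutPSL Cfsg.Lib.Linear.Descent

universe u

variable {F : Type} [Field F] [Fintype F]

local notation "SL2" => Matrix.SpecialLinearGroup (Fin 2) F
local notation "PSL2" => Matrix.ProjectiveSpecialLinearGroup (Fin 2) F

theorem sl_mul {K : Type*} [Field K] (A B : Matrix.SpecialLinearGroup (Fin 2) K) : (A * B).1 = A.1 * B.1 := rfl

theorem sl_one {K : Type*} [Field K] : (1 : Matrix.SpecialLinearGroup (Fin 2) K).1 = 1 := rfl

theorem sl_pow {K : Type*} [Field K] (A : Matrix.SpecialLinearGroup (Fin 2) K) : ∀ n : ℕ, (A ^ n).1 = A.1 ^ n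
  | 0 => rfl
  | n + 1 => by rw [pow_succ, pow_succ, sl_mul, sl_pow A n]

/-- An inner-diagonal automorphism of square determinant is inner. -/
theorem innd_mem_inn {g : GL (Fin 2) F} (h : IsSquare (g.val.det)) :
    (innd g : MulAut PSL2) ∈ Cfsg.Inn PSL2 := by
  obtain ⟨c, hc⟩ := h
  have hc0 : c ≠ 0 := fun h0 => (GeneralLinearGroup.det g).ne_zero (show g.val.det = 0 by rw [hc, h0, mul_zero])
  let s : SL2 := ⟨c⁻¹ • g.val, by rw [Matrix.det_smul, Fintype.card_fin, hc]; field_simp⟩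
  have hg : g = sc (Units.mk0 c hc0) * SpecialLinearGroup.toGL s := by
    refine Units.ext ?_
    rw [Units.val_mul, sc_val, Units.val_mk0]
    show g.val = c • (1 : Matrix (Fin 2) (Fin 2) F) * c⁻¹ • g.val
    rw [Matrix.smul_mul, Matrix.one_mul, smul_smul, mul_inv_cancel₀ hc0, one_smul]
  rw [inn_eq, hg, map_mul, innd_sc, one_mul]
  exact ⟨s, rfl⟩

theorem mk_eq_cases {s t : SL2} (h : (QuotientGroup.mk s : PSL2) = QuotientGroup.mk t) :
    s.1 = t.1 ∨ s.1 = -t.1 := by
  rw [QuotientGroup.eq] at h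
  obtain ⟨r, hr, hz⟩ := Matrix.SpecialLinearGroup.mem_center_iff.mp h
  rw [Fintype.card_fin, sq, mul_self_eq_one_iff] at hr
  have ht : t.1 = r • s.1 := by
    have h1 : t.1 = s.1 * (s⁻¹ * t).1 := by
      rw [← sl_mul, mul_inv_cancel_left]
    rw [h1, ← hz, Matrix.scalar_apply, ← Matrix.smul_one_eq_diagonal, Matrix.mul_smul, Matrix.mul_one]
  rcases hr with rfl | rfl
  · exact Or.inl (by rw [ht, one_smul])
  · exact Or.inr (by rw [ht, neg_one_smul, neg_neg])

/-- The defining characteristic. -/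
theorem inner_of_fix_unip (g : GL (Fin 2) F) (σ : F ≃+* F)
    (hfix : ∀ s : SL2, s ∈ Cfsg.Lib.Linear.Two.UT F →
      (innd g * fld σ : MulAut PSL2) (QuotientGroup.mk s) = QuotientGroup.mk s) :
    (innd g * fld σ : MulAut PSL2) ∈ Cfsg.Inn PSL2 := by
  have h01 : (0 : Fin 2) ≠ 1 := by decide
  have key : ∀ b : F, g.val 1 0 * σ b = 0 ∧ g.val 0 0 * σ b = b * g.val 1 1 ∧ b * g.val 1 0 = 0 := by
    intro b
    have hs : SpecialLinearGroup.transvection h01 b ∈ Cfsg.Lib.Linear.Two.UT F := by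
      rw [Cfsg.Lib.Linear.Two.mem_UT, coe_transvection h01 b]
      simp
    have h := hfix _ hs
    rw [MulAut.mul_apply, fld_mk, innd_mk] at h
    have hM := eq_of_mk_eq (s := cnjHom g (frobHom σ (SpecialLinearGroup.transvection h01 b)))
      (M := g.val * single 0 1 (σ b) * (g⁻¹).val) (N := single 0 1 b) (by
        rw [cnjHom_coe, frob_single σ h01, Matrix.mul_add, Matrix.mul_one, Matrix.add_mul, Units.mul_inv])
      (coe_transvection h01 b) (cnj_sq g h01 (σ b)) (single_sq h01 b b) h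
    have h2 : g.val * single 0 1 (σ b) = single 0 1 b * g.val := by
      rw [← hM, Matrix.mul_assoc, Units.inv_mul, Matrix.mul_one]
    have e1 := congrFun (congrFun h2 1) 1
    have e2 := congrFun (congrFun h2 0) 1
    have e3 := congrFun (congrFun h2 0) 0
    simp [Matrix.mul_apply, Fin.sum_univ_two, Matrix.single_apply] at e1 e2 e3
    refine ⟨?_, ?_, ?_⟩
    · rcases e1 with e | e <;> simp [e]
    · exact e2
    · rcases e3 with e | e <;> simp [e]
  have h10 : g.val 1 0 = 0 := by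
    have := (key 1).2.2
    rwa [one_mul] at this
  have h00 : g.val 0 0 = g.val 1 1 := by
    have := (key 1).2.1
    rwa [map_one, mul_one, one_mul] at this
  have hne : g.val 1 1 ≠ 0 := fun h0 => (GeneralLinearGroup.det g).ne_zero (by
    show g.val.det = 0
    rw [Matrix.det_fin_two, h10, h00, h0]; ring)
  have hσ : σ = 1 := RingEquiv.ext fun b => by
    have := (key b).2.1
    rw [h00, mul_comm b] at this
    exact mul_left_cancel₀ hne this
  rw [hσ, map_one, mul_one]
  exact innd_mem_inn ⟨g.val 1 1, by rw [Matrix.det_fin_two, h10, h00]; ring⟩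

/-- The prime two in odd characteristic. -/
theorem inner_of_fix_four (h2 : (2 : F) ≠ 0) (g : GL (Fin 2) F) {a b : F} (hab : a ^ 2 + b ^ 2 = -1)
    (J K : SL2) (hJ : J.1 = !![0, 1; -1, 0]) (hK : K.1 = !![a, b; b, -a])
    (fJ : (innd g : MulAut PSL2) (QuotientGroup.mk J) = QuotientGroup.mk J)
    (fK : (innd g : MulAut PSL2) (QuotientGroup.mk K) = QuotientGroup.mk K) :
    (innd g : MulAut PSL2) ∈ Cfsg.Inn PSL2 := by
  have rel : ∀ M : SL2, (innd g : MulAut PSL2) (QuotientGroup.mk M) = QuotientGroup.mk M →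
      g.val * M.1 = M.1 * g.val ∨ g.val * M.1 = -(M.1 * g.val) := fun M h => by
    rw [innd_mk] at h
    have key : ∀ N : Matrix (Fin 2) (Fin 2) F, g.val * M.1 * (g⁻¹).val = N → g.val * M.1 = N * g.val :=
      fun N hN => by rw [← hN, Matrix.mul_assoc, Units.inv_mul, Matrix.mul_one]
    rcases mk_eq_cases h with e | e <;> rw [cnjHom_coe] at e
    · exact Or.inl (key _ e)
    · exact Or.inr (by rw [key _ e, Matrix.neg_mul])
  have hJK : J.1 * K.1 = -(K.1 * J.1) := by
    rw [hJ, hK]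
    ext i j
    fin_cases i <;> fin_cases j <;> simp [Matrix.mul_apply, Fin.sum_univ_two]
  obtain ⟨W, hWJ, hWK⟩ : ∃ W : SL2, (g.val * W.1) * J.1 = J.1 * (g.val * W.1) ∧
      (g.val * W.1) * K.1 = K.1 * (g.val * W.1) := by
    rcases rel J fJ with hj | hj <;> rcases rel K fK with hk | hk
    · exact ⟨1, by simpa using hj, by simpa using hk⟩
    · refine ⟨J, ?_, ?_⟩
      · rw [hj, Matrix.mul_assoc J.1, ← hj]
      · rw [Matrix.mul_assoc, hJK, Matrix.mul_neg, ← Matrix.mul_assoc, hk, Matrix.neg_mul, neg_neg,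
          Matrix.mul_assoc]
    · refine ⟨K, ?_, ?_⟩
      · rw [Matrix.mul_assoc, show K.1 * J.1 = -(J.1 * K.1) by rw [hJK, neg_neg], Matrix.mul_neg,
          ← Matrix.mul_assoc, hj, Matrix.neg_mul, neg_neg, Matrix.mul_assoc]
      · rw [hk, Matrix.mul_assoc K.1, ← hk]
    · refine ⟨J * K, ?_, ?_⟩
      · rw [sl_mul, Matrix.mul_assoc, Matrix.mul_assoc J.1,
          show K.1 * J.1 = -(J.1 * K.1) by rw [hJK, neg_neg], Matrix.mul_neg, Matrix.mul_neg,
          ← Matrix.mul_assoc g.val, hj, Matrix.neg_mul, neg_neg, Matrix.mul_assoc]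
      · rw [sl_mul]
        have e1 : g.val * (J.1 * K.1) = J.1 * K.1 * g.val := by
          rw [← Matrix.mul_assoc, hj, Matrix.neg_mul, Matrix.mul_assoc, hk, Matrix.mul_neg, neg_neg, Matrix.mul_assoc]
        calc g.val * (J.1 * K.1) * K.1 = J.1 * K.1 * g.val * K.1 := by rw [e1]
          _ = -(J.1 * K.1 * K.1 * g.val) := by rw [Matrix.mul_assoc (J.1 * K.1), hk, Matrix.mul_neg, ← Matrix.mul_assoc]
          _ = K.1 * (g.val * (J.1 * K.1)) := by
            rw [e1, ← Matrix.mul_assoc, ← Matrix.mul_assoc, show K.1 * J.1 = -(J.1 * K.1) by rw [hJK, neg_neg]]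
            simp only [Matrix.neg_mul]
  set X := g.val * W.1 with hX
  have e00 := congrFun (congrFun hWJ 0) 0
  have e01 := congrFun (congrFun hWJ 0) 1
  have k00 := congrFun (congrFun hWK 0) 0
  have k01 := congrFun (congrFun hWK 0) 1
  rw [hJ] at e00 e01
  rw [hK] at k00 k01
  simp [Matrix.mul_apply, Fin.sum_univ_two] at e00 e01 k00 k01
  have hb : b * X 0 1 = 0 := mul_left_cancel₀ h2 (by linear_combination k00 - b * e00)
  have ha : a * X 0 1 = 0 := mul_left_cancel₀ h2 (by linear_combination b * e01 - k01)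
  have hy : X 0 1 = 0 := by
    rcases mul_eq_zero.1 hb with h | h
    · rcases mul_eq_zero.1 ha with h' | h'
      · rw [h, h'] at hab; simp at hab
      · exact h'
    · exact h
  have hdet : g.val.det = X 0 0 * X 0 0 := by
    have h : X.det = g.val.det := by rw [hX, Matrix.det_mul, W.2, mul_one]
    rw [← h, Matrix.det_fin_two, hy]
    rw [← e01]
    ring
  exact innd_mem_inn ⟨_, hdet⟩

/-- A semisimple element with trace in a subfield. -/
theorem pow_card_sl_subfield {F₀ : Subfield F} (s : SL2) (t : F₀) (ht : (t : F) = s.1.trace) :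
    s ^ (Nat.card F₀ * (Nat.card F₀ ^ 2 - 1)) = 1 := by
  classical
  let c : Matrix.SpecialLinearGroup (Fin 2) F₀ := ⟨!![0, -1; 1, t], by simp [Matrix.det_fin_two]⟩
  have hc2 : c.1 * c.1 = t • c.1 - 1 := by
    ext i j
    fin_cases i <;> fin_cases j <;> simp [c, Matrix.mul_apply, Fin.sum_univ_two] <;> ring
  have hs2 : s.1 * s.1 = (t : F) • s.1 - 1 := by
    have hd := s.2
    rw [Matrix.det_fin_two] at hd
    rw [ht, Matrix.trace_fin_two]
    ext i j
    fin_cases i <;> fin_cases j <;>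
      simp [Matrix.mul_apply, Fin.sum_univ_two, Matrix.one_apply] <;> (first | linear_combination (-1 : F) * hd | linear_combination hd | (ring; done))
  have key : ∀ n : ℕ, ∃ a b : F₀, c.1 ^ n = a • c.1 + b • 1 ∧ s.1 ^ n = (a : F) • s.1 + (b : F) • 1 := by
    intro n
    induction n with
    | zero => exact ⟨0, 1, by simp, by simp⟩
    | succ n ih =>
      obtain ⟨a, b, h1, h2⟩ := ih
      refine ⟨a * t + b, -a, ?_, ?_⟩
      · rw [pow_succ, h1, Matrix.add_mul, Matrix.smul_mul, hc2, Matrix.smul_mul, Matrix.one_mul]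
        module
      · rw [pow_succ, h2, Matrix.add_mul, Matrix.smul_mul, hs2, Matrix.smul_mul, Matrix.one_mul]
        push_cast
        module
  set N := Nat.card F₀ * (Nat.card F₀ ^ 2 - 1) with hN
  have hcN : c ^ N = 1 := by
    haveI : Fintype F₀ := Fintype.ofFinite _
    rw [hN, Nat.card_eq_fintype_card (α := F₀), ← Cfsg.Lib.Linear.Two.card_SL_two]
    exact pow_card_eq_one'
  obtain ⟨a, b, h1, h2⟩ := key N
  rw [← sl_pow, hcN, sl_one] at h1
  have a0 := congrFun (congrFun h1 1) 0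
  have b0 := congrFun (congrFun h1 0) 0
  simp [c] at a0 b0
  refine Subtype.ext ?_
  rw [sl_pow, h2, ← a0, ← b0]
  simp

/-- An odd prime other than the characteristic. -/
theorem field_trivial_of_fix {r : ℕ} [Fact r.Prime] (hr2 : r ≠ 2) (h2 : ringChar F ≠ r)
    (g : GL (Fin 2) F) (σ : F ≃+* F) {j v : ℕ} (hσ : orderOf σ = r ^ j) (hv : 1 ≤ v)
    (hmax : ¬ r ^ (v + 1) ∣ Fintype.card F ^ 2 - 1) (s : SL2) (hs : orderOf s = r ^ v)
    (hfix : (innd g * fld σ : MulAut PSL2) (QuotientGroup.mk s) = QuotientGroup.mk s) : σ = 1 := by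
  classical
  have hr : r.Prime := Fact.out
  by_contra hσ1
  obtain ⟨j, rfl⟩ : ∃ i, j = i + 1 := by
    rcases j with - | i
    · exact absurd (orderOf_eq_one_iff.1 (by rw [hσ, pow_zero])) hσ1
    · exact ⟨i, rfl⟩
  have hRodd : Odd (r ^ v) := (hr.odd_of_ne_two hr2).pow
  rw [MulAut.mul_apply, fld_mk, innd_mk] at hfix
  have heq : (cnjHom g (frobHom σ s)).1 = s.1 := by
    rcases mk_eq_cases hfix with e | e
    · exact e
    · have h1 : (cnjHom g (frobHom σ s)) ^ (r ^ v) = 1 := by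
        rw [← map_pow, ← map_pow, ← hs, pow_orderOf_eq_one, map_one, map_one]
      have h3 := congrArg Subtype.val h1
      rw [sl_pow, e, hRodd.neg_pow, ← sl_pow, ← hs, pow_orderOf_eq_one,
        sl_one] at h3
      have h4 := congrFun (congrFun h3 0) 0
      simp at h4
      exact e.trans (by
        ext i k
        rw [Matrix.neg_apply]
        linear_combination (s.1 i k) * h4)
  have htr : σ s.1.trace = s.1.trace := by
    have h := congrArg Matrix.trace heq
    rw [cnjHom_coe, Matrix.trace_mul_comm, ← Matrix.mul_assoc, Units.inv_mul, Matrix.one_mul, frobHom_coe] at h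
    rw [Matrix.trace_fin_two] at h ⊢
    rw [map_add, ← Matrix.trace_fin_two s.1]
    simpa [Matrix.trace_fin_two] using h
  have hpow := pow_card_sl_subfield s ⟨s.1.trace, mem_fixedF.2 htr⟩ rfl
  have hdvd := orderOf_dvd_of_pow_eq_one hpow
  rw [hs] at hdvd
  set q₀ := Nat.card (fixedF σ) with hq₀
  have hq := card_fixedF_pow σ
  rw [hσ, ← hq₀] at hq
  have hcop : (r ^ v).Coprime q₀ := by
    refine Nat.Coprime.pow_left _ ((hr.coprime_iff_not_dvd).2 fun hd => h2 ?_)
    obtain ⟨p, hp⟩ := CharP.exists F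
    obtain ⟨n, hpp, hn⟩ := FiniteField.card F p
    have h5 : r ∣ p ^ (n : ℕ) := by
      rw [← hn, ← hq]
      exact hd.trans (dvd_pow_self _ (pow_ne_zero _ hr.ne_zero))
    rw [ringChar.eq F p]
    exact ((Nat.prime_dvd_prime_iff_eq hr hpp).1 (hr.dvd_of_dvd_pow h5)).symm
  have hQ : r ^ v ∣ q₀ ^ 2 - 1 := hcop.dvd_of_dvd_mul_left hdvd
  apply hmax
  have h1 : (q₀ ^ 2 - 1) * r ∣ (q₀ ^ 2) ^ r - 1 := by
    have hq1 : 1 ≤ q₀ ^ 2 := Nat.one_le_pow _ _ Nat.card_pos
    rw [← geom_sum_mul_of_one_le hq1, mul_comm]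
    refine Nat.mul_dvd_mul_right ?_ _
    have hm : q₀ ^ 2 ≡ 1 [MOD r] :=
      ((Nat.modEq_iff_dvd' hq1).2 ((dvd_pow_self r (by omega : v ≠ 0)).trans hQ)).symm
    refine (Nat.modEq_zero_iff_dvd).1 ?_
    have hsum : (∑ i ∈ Finset.range r, (q₀ ^ 2) ^ i) ≡ ∑ i ∈ Finset.range r, 1 [MOD r] :=
      Nat.ModEq.sum fun i _ => by simpa using hm.pow i
    refine hsum.trans ?_
    rw [Finset.sum_const, Finset.card_range, smul_eq_mul, mul_one]
    exact Nat.modEq_zero_iff_dvd.2 dvd_rfl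
  have h3 : (q₀ ^ 2) ^ r - 1 ∣ Fintype.card F ^ 2 - 1 := by
    rw [← hq, ← pow_mul q₀ (r ^ (j + 1)) 2, mul_comm (r ^ (j + 1)) 2, pow_mul, pow_succ' r j, pow_mul]
    exact Nat.sub_one_dvd_pow_sub_one _ _
  rw [pow_succ]
  exact ((Nat.mul_dvd_mul_right hQ r).trans h1).trans h3

/-- An automorphism of `r`-power order of `PSL₂(q)` fixing a Sylow `r`-subgroup is inner. -/
theorem psl_inner_of_fix (h4 : 4 ≤ Fintype.card F)
    (hq : Fintype.card F % 8 = 0 ∨ Fintype.card F % 8 = 3 ∨ Fintype.card F % 8 = 5)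
    (r : ℕ) [Fact r.Prime] (hr : r ∣ Nat.card PSL2) (α : MulAut PSL2) (k : ℕ) (hα : α ^ (r ^ k) = 1)
    (R : Sylow r PSL2) (hR : ∀ x ∈ (R : Subgroup PSL2), α x = x) : α ∈ Cfsg.Inn PSL2 := by
  classical
  have hrp : r.Prime := Fact.out
  obtain ⟨p, hp⟩ := CharP.exists F
  obtain ⟨f, hpp, hF⟩ := FiniteField.card F p
  haveI : Fact p.Prime := ⟨hpp⟩
  have hpc : ringChar F = p := ringChar.eq F p
  -- move the fixed subgroup
  have move : ∀ Q : Subgroup PSL2, IsPGroup r Q → ∃ β : MulAut PSL2,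
      β ^ (r ^ k) = 1 ∧ (∀ x ∈ Q, β x = x) ∧ (β ∈ Cfsg.Inn PSL2 → α ∈ Cfsg.Inn PSL2) := by
    intro Q hQ
    obtain ⟨P, hP⟩ := hQ.exists_le_sylow
    obtain ⟨c, hc⟩ := MulAction.exists_smul_eq PSL2 P R
    refine ⟨(MulAut.conj c)⁻¹ * α * MulAut.conj c, ?_, ?_, fun h => ?_⟩
    · have := conj_pow (a := (MulAut.conj c)⁻¹) (b := α) (i := r ^ k)
      rw [inv_inv] at this
      rw [this, hα, mul_one, inv_mul_cancel]
    · intro x hx
      have hm : MulAut.conj c x ∈ (R : Subgroup PSL2) := by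
        rw [← hc, Sylow.coe_subgroup_smul]
        exact ⟨x, hP hx, rfl⟩
      rw [MulAut.mul_apply, MulAut.mul_apply, hR _ hm, MulAut.inv_apply_self]
    · have hc' : MulAut.conj c ∈ Cfsg.Inn PSL2 := ⟨c, rfl⟩
      have := mul_mem (mul_mem hc' h) (inv_mem hc')
      convert this using 1
      group
  -- decomposition
  have dec : ∀ β : MulAut PSL2, β ^ (r ^ k) = 1 → ∃ (g : GL (Fin 2) F) (σ : F ≃+* F) (j : ℕ),
      β = innd g * fld σ ∧ orderOf σ = r ^ j := by
    intro β hβ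
    obtain ⟨g, σ, hb⟩ : ∃ (g : GL (Fin 2) F) (σ : F ≃+* F), β = innd g * fld σ := by
      obtain ⟨g, σ, h | h⟩ := exists_decomp (p := p) (le_refl 2) β
      · exact ⟨g, σ, h⟩
      · obtain ⟨J, hJ⟩ := gr_eq_innd_two (F := F)
        refine ⟨g * GeneralLinearGroup.map σ.toRingHom J, σ, ?_⟩
        rw [h, hJ, mul_assoc, fld_mul_innd, ← mul_assoc, ← map_mul]
    have h1 := hβ
    rw [hb, innd_fld_pow] at h1
    have h2 : (innd (tw σ g (r ^ k))⁻¹ : MulAut PSL2) = fld (σ ^ (r ^ k)) := by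
      rw [map_inv]
      exact inv_eq_of_mul_eq_one_right h1
    obtain ⟨j, -, hj⟩ := (Nat.dvd_prime_pow hrp).1 (orderOf_dvd_of_pow_eq_one (innd_eq_fld h2).1)
    exact ⟨g, σ, j, hb, hj⟩
  by_cases hrpc : r = p
  · subst hrpc
    obtain ⟨β, hβ, hfix, himp⟩ := move _ (Cfsg.Lib.Dickson.stdSylow (F := F) r).isPGroup'
    obtain ⟨g, σ, j, rfl, -⟩ := dec β hβ
    refine himp (inner_of_fix_unip g σ fun s hs => hfix _ ?_)
    rw [Cfsg.Lib.Dickson.stdSylow_coe]
    exact mem_map_of_mem _ hs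
  by_cases hr2 : r = 2
  · subst hr2
    have hF2 : (2 : F) ≠ 0 := by
      intro h
      have : (p : ℕ) ∣ 2 := (CharP.cast_eq_zero_iff F p 2).1 (by exact_mod_cast h)
      exact hrpc ((Nat.prime_dvd_prime_iff_eq hpp Nat.prime_two).1 this).symm
    have hodd : ¬ 2 ∣ Fintype.card F := fun h => hrpc
      ((Nat.prime_dvd_prime_iff_eq Nat.prime_two hpp).1 (Nat.prime_two.dvd_of_dvd_pow (hF ▸ h)))
    have hfodd : ¬ 2 ∣ (f : ℕ) := by
      rintro ⟨i, hi⟩
      have h1 : (p ^ i) ^ 2 % 8 = Fintype.card F % 8 := by rw [hF, hi, ← pow_mul, mul_comm]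
      have h2 : p ^ i % 2 = 1 := by
        by_contra h
        exact hodd (hF ▸ hi ▸ by rw [mul_comm, pow_mul, sq]; exact dvd_mul_of_dvd_left (Nat.dvd_of_mod_eq_zero (by omega)) _)
      rw [Nat.pow_mod] at h1
      have : p ^ i % 8 = 1 ∨ p ^ i % 8 = 3 ∨ p ^ i % 8 = 5 ∨ p ^ i % 8 = 7 := by omega
      rcases this with h | h | h | h <;> rw [h] at h1 <;> norm_num at h1 <;> omega
    obtain ⟨a, b, hab⟩ := Cfsg.Lib.Dickson.exists_sq_add_sq_eq_neg_one hF2
    let J : SL2 := ⟨!![0, 1; -1, 0], by simp [Matrix.det_fin_two]⟩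
    let K : SL2 := ⟨!![a, b; b, -a], by rw [Matrix.det_fin_two_of]; linear_combination -hab⟩
    have hm1 : ∀ z : SL2, z.1 = -1 → (QuotientGroup.mk z : PSL2) = 1 := fun z hz => by
      rw [QuotientGroup.eq_one_iff, Matrix.SpecialLinearGroup.mem_center_iff]
      refine ⟨-1, by simp, ?_⟩
      rw [hz, map_neg, map_one]
    have hJ2 : (QuotientGroup.mk J : PSL2) * QuotientGroup.mk J = 1 := by
      rw [← QuotientGroup.mk_mul]
      refine hm1 _ ?_
      rw [sl_mul]
      ext i j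
      fin_cases i <;> fin_cases j <;> simp [J, sl_mul, Matrix.mul_apply, Fin.sum_univ_two]
    have hK2 : (QuotientGroup.mk K : PSL2) * QuotientGroup.mk K = 1 := by
      rw [← QuotientGroup.mk_mul]
      refine hm1 _ ?_
      rw [sl_mul]
      ext i j
      fin_cases i <;> fin_cases j <;> simp [K, Matrix.mul_apply, Fin.sum_univ_two] <;>
        first | linear_combination hab | (ring; done)
    have hcomm : (QuotientGroup.mk J : PSL2) * QuotientGroup.mk K = QuotientGroup.mk K * QuotientGroup.mk J := by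
      rw [← QuotientGroup.mk_mul, ← QuotientGroup.mk_mul, QuotientGroup.eq, Matrix.SpecialLinearGroup.mem_center_iff]
      refine ⟨-1, by simp, ?_⟩
      have e : (K * J).1 = -(J * K).1 := by
        rw [sl_mul, sl_mul]
        ext i j
        fin_cases i <;> fin_cases j <;> simp [J, K, Matrix.mul_apply, Fin.sum_univ_two]
      rw [sl_mul ((J * K)⁻¹), e, Matrix.mul_neg, ← sl_mul,
        inv_mul_cancel, sl_one, map_neg, map_one]
    let Q := Subgroup.closure ({QuotientGroup.mk J, QuotientGroup.mk K} : Set PSL2)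
    have hQ : IsPGroup 2 Q := by
      haveI : IsMulCommutative Q := Subgroup.isMulCommutative_closure (by
        rintro x (rfl | rfl) y (rfl | rfl)
        · rfl
        · exact hcomm
        · exact hcomm.symm
        · rfl)
      intro x
      refine ⟨1, Subtype.ext ?_⟩
      rw [pow_one, SubmonoidClass.coe_pow, OneMemClass.coe_one, sq]
      have hall : ∀ y ∈ Q, y * y = 1 ∧ y ∈ Q := by
        intro y hy
        refine ⟨?_, hy⟩
        induction hy using Subgroup.closure_induction with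
        | mem z hz => rcases hz with rfl | rfl <;> assumption
        | one => exact mul_one 1
        | mul u v hu hv h1 h2 =>
          have hc : u * v = v * u := congrArg Subtype.val
            ((inferInstance : IsMulCommutative Q).is_comm.comm ⟨u, hu⟩ ⟨v, hv⟩)
          calc u * v * (u * v) = u * (v * u) * v := by group
            _ = u * (u * v) * v := by rw [hc]
            _ = (u * u) * (v * v) := by group
            _ = 1 := by rw [h1, h2, one_mul]
        | inv u _ h => rw [← _root_.mul_inv_rev, h, inv_one]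
      exact (hall _ x.2).1
    obtain ⟨β, hβ, hfix, himp⟩ := move Q hQ
    obtain ⟨g, σ, j, rfl, hj⟩ := dec β hβ
    have hσ : σ = 1 := by
      have h1 := orderOf_dvd_exp (p := p) f.pos hF σ
      rw [hj] at h1
      rcases Nat.eq_zero_or_pos j with rfl | hjp
      · exact orderOf_eq_one_iff.1 (hj.trans (pow_zero 2))
      · exact absurd ((dvd_pow_self 2 hjp.ne').trans h1) hfodd
    subst hσ
    rw [map_one, mul_one] at hfix himp
    exact himp (inner_of_fix_four hF2 g hab J K rfl rfl (hfix _ (subset_closure (Or.inl rfl)))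
      (hfix _ (subset_closure (Or.inr rfl))))
  -- an odd prime outside the characteristic
  set q := Fintype.card F with hq_def
  have hd2 : (r : ℕ).Coprime 2 := (Nat.coprime_primes hrp Nat.prime_two).2 hr2
  have hq21 : q ^ 2 - 1 ≠ 0 := by
    have := Nat.pow_le_pow_left h4 2
    omega
  set v := (q ^ 2 - 1).factorization r with hv_def
  have hv1 : 1 ≤ v := by
    refine hrp.factorization_pos_of_dvd hq21 ?_
    have h1 : r ∣ q * (q ^ 2 - 1) := by
      rw [← Cfsg.Lib.Linear.Two.card_PSL_two (F := F)]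
      exact hr.trans (dvd_mul_left _ _)
    refine (hrp.dvd_mul.1 h1).resolve_left fun h => hrpc ?_
    exact (Nat.prime_dvd_prime_iff_eq hrp hpp).1 (hrp.dvd_of_dvd_pow (hF ▸ h))
  have hR1 : r ^ v ∣ q ^ 2 - 1 := Nat.ordProj_dvd _ _
  have hR2 : ¬ r ^ (v + 1) ∣ q ^ 2 - 1 := Nat.pow_succ_factorization_not_dvd hq21 hrp
  have hsplit : r ^ v ∣ q - 1 ∨ r ^ v ∣ q + 1 := by
    rw [show q ^ 2 - 1 = (q + 1) * (q - 1) by rw [← Nat.sq_sub_sq, one_pow]] at hR1
    by_cases hm : r ∣ q - 1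
    · have : ¬ r ∣ q + 1 := fun h => hr2 ((Nat.prime_dvd_prime_iff_eq hrp Nat.prime_two).1 (by
        have := Nat.dvd_sub h hm
        rwa [show q + 1 - (q - 1) = 2 by omega] at this))
      exact Or.inl ((Nat.Coprime.pow_left v ((hrp.coprime_iff_not_dvd).2 this)).dvd_of_dvd_mul_left hR1)
    · exact Or.inr ((Nat.Coprime.pow_left v ((hrp.coprime_iff_not_dvd).2 hm)).dvd_of_dvd_mul_right hR1)
  have hgd : ∀ n, r ^ v ∣ n → Nat.gcd 2 (q - 1) ∣ n → r ^ v ∣ n / Nat.gcd 2 (q - 1) := fun n h1 h2 => by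
    obtain ⟨m, rfl⟩ := h2
    rw [Nat.mul_div_cancel_left _ (Nat.gcd_pos_of_pos_left _ two_pos)]
    exact ((Nat.Coprime.pow_left v hd2).coprime_dvd_right (Nat.gcd_dvd_left 2 _)).dvd_of_dvd_mul_left h1
  obtain ⟨x, hx⟩ : r ^ v ∈ Set.range (orderOf : PSL2 → ℕ) := by
    rw [Cfsg.Lib.Spec.psl_two_spectrum p h4]
    rcases hsplit with h | h
    · exact Or.inr (Or.inl (hgd _ h (Nat.gcd_dvd_right _ _)))
    · refine Or.inr (Or.inr (hgd _ h ?_))
      have : q + 1 = (q - 1) + 2 := by omega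
      rw [this]
      exact dvd_add (Nat.gcd_dvd_right _ _) (Nat.gcd_dvd_left _ _)
  obtain ⟨β, hβ, hfix, himp⟩ := move (zpowers x) (IsPGroup.of_card (n := v) (by rw [Nat.card_zpowers, hx]))
  obtain ⟨g, σ, j, rfl, hj⟩ := dec β hβ
  obtain ⟨s₀, hs₀⟩ := QuotientGroup.mk_surjective x
  have hodd : Odd (r ^ v) := (hrp.odd_of_ne_two hr2).pow
  obtain ⟨s, hsx, hs⟩ : ∃ s : SL2, (QuotientGroup.mk s : PSL2) = x ∧ orderOf s = r ^ v := by
    have hz : s₀ ^ (r ^ v) ∈ Subgroup.center SL2 := by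
      rw [← QuotientGroup.eq_one_iff, QuotientGroup.mk_pow, hs₀, ← hx, pow_orderOf_eq_one]
    obtain ⟨m, hm⟩ : ∃ m, r ^ v + 1 = 2 * m := ⟨(r ^ v + 1) / 2, by obtain ⟨i, hi⟩ := hodd; omega⟩
    have hz2 : (s₀ ^ (r ^ v)) ^ 2 = 1 := by
      refine Subtype.ext ?_
      obtain ⟨c, hc, hcs⟩ := Matrix.SpecialLinearGroup.mem_center_iff.mp hz
      rw [Fintype.card_fin] at hc
      rw [sl_pow, ← hcs, ← map_pow, hc, map_one, sl_one]
    refine ⟨s₀ ^ (r ^ v + 1), ?_, ?_⟩
    · rw [QuotientGroup.mk_pow, hs₀, pow_succ, ← hx, pow_orderOf_eq_one, one_mul]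
    · refine Nat.dvd_antisymm (orderOf_dvd_of_pow_eq_one ?_) ?_
      · rw [← pow_mul, hm, mul_comm (2 * m), mul_comm 2 m, ← mul_assoc, pow_mul, ← pow_mul s₀, pow_mul, pow_mul,
          ← pow_mul, mul_comm m, pow_mul, hz2, one_pow]
      · have h := orderOf_map_dvd (QuotientGroup.mk' (Subgroup.center SL2)) (s₀ ^ (r ^ v + 1))
        rw [QuotientGroup.mk'_apply, QuotientGroup.mk_pow, hs₀, pow_succ] at h
        nth_rewrite 1 [← hx] at h
        rw [pow_orderOf_eq_one, one_mul, hx] at h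
        exact h
  have hσ := field_trivial_of_fix hr2 (by rw [hpc]; exact fun h => hrpc h.symm) g σ hj hv1 hR2 s hs
    (by rw [hsx]; exact hfix x (mem_zpowers x))
  subst hσ
  rw [map_one, mul_one] at hβ himp
  apply himp
  have hsq : (innd g : MulAut PSL2) ^ 2 ∈ Cfsg.Inn PSL2 := by
    rw [← map_pow]
    refine innd_mem_inn ⟨g.val.det, ?_⟩
    rw [Units.val_pow_eq_pow_val, Matrix.det_pow, sq]
  obtain ⟨m, hm⟩ := (hrp.odd_of_ne_two hr2).pow (n := k)
  rw [hm, pow_succ, pow_mul] at hβ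
  rw [eq_inv_of_mul_eq_one_right hβ]
  exact inv_mem (pow_mem hsq m)

/-- In a simple group with all Sylow subgroups abelian. -/
theorem inner_of_concl {G : Type u} [Group G] [Finite G] (hC : AllAbConcl G) (r : ℕ) [Fact r.Prime]
    (hr : r ∣ Nat.card G) (α : G ≃* G) (k : ℕ) (hα : orderOf α = r ^ k)
    (R : Sylow r G) (hR : ∀ x ∈ (R : Subgroup G), α x = x) : ∃ g : G, ∀ x : G, α x = g * x * g⁻¹ := by
  have fin : (α : MulAut G) ∈ Cfsg.Inn G → ∃ g : G, ∀ x : G, α x = g * x * g⁻¹ := fun ⟨g, hg⟩ =>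
    ⟨g, fun x => by rw [← hg]; rfl⟩
  rcases hC with hJ | ⟨F, i₁, i₂, h3, hq, ⟨e⟩⟩
  · obtain ⟨φ⟩ := hJ
    refine fin ?_
    obtain ⟨s, hs⟩ := Cfsg.Lib.J1.mem_inn (MulAut.congr φ α)
    refine ⟨φ.symm s, MulEquiv.ext fun x => φ.injective ?_⟩
    have h := congrArg (fun f : MulAut ↥Spor.J1 => f (φ x)) hs
    rw [MulAut.conj_apply, map_mul, map_mul, map_inv, φ.apply_symm_apply]
    simp only [MulAut.conj_apply] at h
    rw [h]
    show φ (α (φ.symm (φ x))) = φ (α x)
    rw [φ.symm_apply_apply]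
  · refine fin ?_
    obtain ⟨P, hP⟩ := (R.isPGroup'.map e.toMonoidHom).exists_le_sylow
    have hPR : (R : Subgroup G).map e.toMonoidHom = P := by
      refine eq_of_le_of_card_ge hP ?_
      rw [card_map_of_injective (f := e.toMonoidHom) e.injective, P.card_eq_multiplicity, R.card_eq_multiplicity,
        Nat.card_congr e.toEquiv]
    have h := psl_inner_of_fix (F := F) (by omega) hq r (by rwa [← Nat.card_congr e.toEquiv]) (MulAut.congr e α) k
      (by rw [← map_pow, ← hα, pow_orderOf_eq_one, map_one]) P (fun x hx => by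
        rw [← hPR] at hx
        obtain ⟨y, hy, rfl⟩ := hx
        show e (α (e.symm (e y))) = e y
        rw [e.symm_apply_apply, hR y hy])
    obtain ⟨s, hs⟩ := h
    refine ⟨e.symm s, MulEquiv.ext fun x => e.injective ?_⟩
    have h' := congrArg (fun f : MulAut (ProjectiveSpecialLinearGroup (Fin 2) F) => f (e x)) hs
    rw [MulAut.conj_apply, map_mul, map_mul, map_inv, e.apply_symm_apply]
    simp only [MulAut.conj_apply] at h'
    rw [h']
    show e (α (e.symm (e x))) = e (α x)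
    rw [e.symm_apply_apply]

end Cfsg.Lib.AllAb
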