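import Cfsg.Agent.Lib.Char.FixedPointFreeSlices
import Cfsg.Agent.Lib.Char.Formulas
import Mathlib.GroupTheory.Sylow

/-!
# An abelian TI Sylow subgroup bounds the degrees

A character of degree `d` has squared values summing to at least `|P| d - d²` on the nontrivial elements
of an abelian `P`; when the Sylow subgroups meet trivially these sets are disjoint.
-/

set_option autoImplicit false
set_option linter.style.haveILetI false
set_option linter.unusedSectionVars false

namespace Cfsg.Lib.AllAb

open Subgroup Cfsg Cfsg.Lib.Char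
open scoped ComplexConjugate

universe u

theorem card_mul_le_sum_normSq {S : Type u} [Group S] [Fintype S] (hc : ∀ a b : S, a * b = b * a)
    {T : S → ℂ} (hT : IsCharacter S T) {d : ℕ} (hd : T 1 = (d : ℂ)) :
    ((Fintype.card S * d : ℕ) : ℝ) ≤ ∑ y, Complex.normSq (T y) := by
  classical
  choose a ha using fun ν : IrrCharacter S => hT.exists_nat_classInner ν.2.isCharacter
  have hdeg : ∀ ν : IrrCharacter S, (ν : S → ℂ) 1 = 1 := fun ν => degree_eq_one_of_comm hc ν.2
  have hT1 : d = ∑ ν, a ν := by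
    have h : T 1 = ∑ ν : IrrCharacter S, (a ν : ℂ) := by
      conv_lhs => rw [eq_sum_classInner hT.isClassFunction]
      simp only [Finset.sum_apply, Pi.smul_apply, smul_eq_mul, ha, hdeg, mul_one]
    rw [hd, ← Nat.cast_sum] at h
    exact_mod_cast h
  have hpar : ∑ y, Complex.normSq (T y) = ((Fintype.card S * ∑ ν, a ν ^ 2 : ℕ) : ℝ) := by
    have h2 := classInner_eq_sum (f' := T) hT.isClassFunction
    simp only [ha, Complex.conj_natCast] at h2
    simp only [classInner, Complex.mul_conj] at h2
    rw [inv_mul_eq_iff_eq_mul₀ card_cast_ne_zero] at h2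
    simp only [← sq, ← Nat.cast_pow, ← Nat.cast_sum, ← Complex.ofReal_sum,
      Nat.card_eq_fintype_card, ← Nat.cast_mul] at h2
    exact_mod_cast h2
  rw [hpar, hT1, Nat.cast_le]
  exact Nat.mul_le_mul_left _ (Finset.sum_le_sum fun ν _ => by nlinarith)

variable {G : Type u} [Group G] [Fintype G] {p : ℕ} [Fact p.Prime]
  (hti : ∀ P P' : Sylow p G, ∀ y : G, y ∈ (P : Subgroup G) → y ∈ (P' : Subgroup G) → y ≠ 1 → P' = P)

include hti in
/-- Sylow's congruence modulo the order of a TI Sylow subgroup. -/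
theorem card_sylow_eq (P : Sylow p G) :
    ∃ c, Nat.card (Sylow p G) = 1 + Nat.card (P : Subgroup G) * c := by
  classical
  haveI := Fintype.ofFinite (Sylow p G)
  have hfix : ∀ x : (P : Subgroup G), (x : G) • P = P := fun x =>
    Sylow.smul_eq_iff_mem_normalizer.2 (le_normalizer x.2)
  letI : MulAction (P : Subgroup G) {Q : Sylow p G // Q ≠ P} :=
    { smul := fun x Q => ⟨(x : G) • (Q : Sylow p G), fun h => Q.2 (by
        rw [← inv_smul_smul (x : G) (Q : Sylow p G), h]
        exact hfix x⁻¹)⟩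
      one_smul := fun Q => Subtype.ext (one_smul G (Q : Sylow p G))
      mul_smul := fun x y Q => Subtype.ext (mul_smul (x : G) (y : G) (Q : Sylow p G)) }
  have hfree : ∀ Q : {Q : Sylow p G // Q ≠ P}, MulAction.stabilizer (P : Subgroup G) Q = ⊥ := by
    intro Q
    rw [eq_bot_iff_forall]
    intro x hx
    by_contra hne
    have h : (x : G) • (Q : Sylow p G) = Q := congrArg Subtype.val hx
    have hxQ : (x : G) ∈ (P : Subgroup G) ⊓ ((Q : Sylow p G) : Subgroup G) := by
      rw [← P.2.inf_normalizer_sylow]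
      exact ⟨x.2, Sylow.smul_eq_iff_mem_normalizer.1 h⟩
    exact Q.2 (hti P Q x x.2 hxQ.2 fun e => hne (Subtype.ext e))
  have h := Nat.card_congr (MulAction.selfEquivOrbitsQuotientProd hfree)
  rw [Nat.card_prod, mul_comm] at h
  obtain ⟨c, hc⟩ : ∃ c, Nat.card {Q : Sylow p G // Q ≠ P} = Nat.card (P : Subgroup G) * c := ⟨_, h⟩
  refine ⟨c, ?_⟩
  rw [← hc, Nat.card_eq_fintype_card, Nat.card_eq_fintype_card, Fintype.card_subtype_compl]
  have : 1 ≤ Fintype.card (Sylow p G) := Fintype.card_pos_iff.2 ⟨P⟩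
  rw [show Fintype.card {Q : Sylow p G // Q = P} = 1 from Fintype.card_subtype_eq P]
  omega

include hti in
/-- The degree bound. -/
theorem degree_bound (hab : ∀ P : Sylow p G, ∀ a ∈ (P : Subgroup G), ∀ b ∈ (P : Subgroup G), a * b = b * a)
    (P₀ : Sylow p G) (χ : IrrCharacter G) :
    Nat.card (Sylow p G) * (Nat.card (P₀ : Subgroup G) * charDegree (χ : G → ℂ)) ≤
      Nat.card G + Nat.card (Sylow p G) * charDegree (χ : G → ℂ) ^ 2 := by
  classical
  haveI := Fintype.ofFinite (Sylow p G)
  set d := charDegree (χ : G → ℂ) with hd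
  have hd1 : (χ : G → ℂ) 1 = (d : ℂ) := χ.2.apply_one_eq_charDegree
  -- the total
  have htot : ∑ g : G, Complex.normSq ((χ : G → ℂ) g) = (Nat.card G : ℝ) := by
    have h := classInner_irr_self χ.2
    simp only [classInner, Complex.mul_conj] at h
    rw [inv_mul_eq_iff_eq_mul₀ card_cast_ne_zero, mul_one, ← Complex.ofReal_sum] at h
    exact_mod_cast h
  -- one Sylow subgroup
  have hone : ∀ P : Sylow p G, ((Nat.card (P₀ : Subgroup G) * d : ℕ) : ℝ) ≤
      ((d : ℝ) ^ 2 + ∑ g ∈ (Finset.univ.filter fun g : G => g ∈ (P : Subgroup G) ∧ g ≠ 1),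
        Complex.normSq ((χ : G → ℂ) g)) := by
    intro P
    have h := card_mul_le_sum_normSq (S := (P : Subgroup G))
      (fun a b => Subtype.ext (hab P _ a.2 _ b.2)) (χ.2.isCharacter.comp (P : Subgroup G).subtype)
      (d := d) hd1
    rw [← Nat.card_eq_fintype_card, Nat.card_congr (P.equiv P₀).toEquiv] at h
    refine h.trans (le_of_eq ?_)
    have hmap : (Finset.univ.filter fun g : G => g ∈ (P : Subgroup G)) =
        insert 1 (Finset.univ.filter fun g : G => g ∈ (P : Subgroup G) ∧ g ≠ 1) := by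
      ext g
      by_cases hg : g = 1
      · simp [hg, one_mem]
      · simp [hg]
    rw [show ∑ y : (P : Subgroup G), Complex.normSq ((χ : G → ℂ) ((P : Subgroup G).subtype y)) =
      ∑ g ∈ (Finset.univ.filter fun g : G => g ∈ (P : Subgroup G)), Complex.normSq ((χ : G → ℂ) g) from
      (Finset.sum_subtype (F := inferInstance) _ (fun g => by simp)
        (fun g => Complex.normSq ((χ : G → ℂ) g))).symm, hmap, Finset.sum_insert (by simp), hd1,
      Complex.normSq_natCast, sq]
  -- disjointness
  have hdisj : ∑ P : Sylow p G, ∑ y ∈ (Finset.univ.filter fun g : G => g ∈ (P : Subgroup G) ∧ g ≠ 1),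
      Complex.normSq ((χ : G → ℂ) y) ≤ (Nat.card G : ℝ) := by
    rw [← htot, ← Finset.sum_biUnion]
    · exact Finset.sum_le_univ_sum_of_nonneg fun g => Complex.normSq_nonneg _
    · intro P _ P' _ hne
      rw [Function.onFun, Finset.disjoint_left]
      intro g hg hg'
      simp only [Finset.mem_filter, Finset.mem_univ, true_and] at hg hg'
      exact hne (hti P P' g hg.1 hg'.1 hg.2).symm
  have h := (Finset.sum_le_sum fun P (_ : P ∈ (Finset.univ : Finset (Sylow p G))) => hone P)
  rw [Finset.sum_const, Finset.sum_add_distrib, Finset.sum_const, Finset.card_univ, nsmul_eq_mul,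
    nsmul_eq_mul, ← Nat.card_eq_fintype_card] at h
  have h' : ((Nat.card (Sylow p G) * (Nat.card (P₀ : Subgroup G) * d) : ℕ) : ℝ) ≤
      ((Nat.card G + Nat.card (Sylow p G) * d ^ 2 : ℕ) : ℝ) := by
    push_cast at h ⊢
    linarith
  exact_mod_cast h'

end Cfsg.Lib.AllAb
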