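import Cfsg.Agent.Lib.AllAb.SylowThree
import Cfsg.Agent.Lib.AllAb.Count
import Cfsg.Agent.Lib.ReeType.Model

/-!
# A group of Ree order with a Ree involution centralizer has nonabelian Sylow three-subgroups

Otherwise they are TI, so there are at least `q^3 + 1` of them, which is too many for the irreducible
character of degree `q^2 - q + 1`.
-/

set_option autoImplicit false
set_option linter.style.haveILetI false

namespace Cfsg.Lib.AllAb

open Subgroup Cfsg Matrix
open Cfsg.Lib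

universe u

/-- The configuration from the involution centralizer. -/
theorem exists_setup {G : Type u} [Group G] [Finite G] {F : Type} [Field F] [Fintype F] {m : ℕ}
    (hm : 1 ≤ m) (hF : Fintype.card F = 3 ^ (2 * m + 1)) {t : G} (ht : orderOf t = 2)
    (hidx : Odd (centralizer ({t} : Set G)).index)
    (e : centralizer ({t} : Set G) ≃*
      Multiplicative (ZMod 2) × ProjectiveSpecialLinearGroup (Fin 2) F) :
    ∃ T, Nonempty (ReeType.Setup G (ProjectiveSpecialLinearGroup (Fin 2) F) m T) := by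
  obtain ⟨T, hT, ⟨D⟩⟩ := ReeType.exists_LData hm hF
  set φ : ProjectiveSpecialLinearGroup (Fin 2) F →* G := (centralizer ({t} : Set G)).subtype.comp
    (e.symm.toMonoidHom.comp (MonoidHom.inr (Multiplicative (ZMod 2)) _)) with hφ
  have hφe : ∀ l, φ l = (e.symm (1, l) : G) := fun l => rfl
  have hinj : Function.Injective φ := fun x y h => congrArg Prod.snd (e.symm.injective (Subtype.ext h))
  have htC : t ∈ centralizer ({t} : Set G) := mem_centralizer_singleton_iff.2 rfl
  have ht1 : t ≠ 1 := fun h => by rw [h, orderOf_one] at ht; omega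
  have hsnd : (e ⟨t, htC⟩).2 = 1 := by
    set c := (e ⟨t, htC⟩).2
    have hc : ∀ l, c * l = l * c := fun l => by
      have h := congrArg (fun x => (e x).2)
        (Subtype.ext (mem_centralizer_singleton_iff.1 (e.symm (1, l)).2) :
          e.symm (1, l) * ⟨t, htC⟩ = ⟨t, htC⟩ * e.symm (1, l))
      simpa using h.symm
    obtain ⟨u, hu, hu1⟩ : ∃ u ∈ D.U, u ≠ 1 := by
      by_contra h
      push Not at h
      have h1 := D.card_U
      rw [(eq_bot_iff_forall _).2 h, card_bot] at h1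
      have : 3 ^ 1 ≤ 3 ^ (2 * m + 1) := Nat.pow_le_pow_right (by norm_num) (by omega)
      omega
    have h3 : c ^ 3 = 1 := D.U_cube c (D.cent_U u hu hu1 c (hc u))
    have h2 : c * c = 1 := by
      have hz : D.r * D.z * D.r⁻¹ * (D.r * D.z * D.r⁻¹) = 1 := by
        calc D.r * D.z * D.r⁻¹ * (D.r * D.z * D.r⁻¹) = D.r * (D.z * D.z) * D.r⁻¹ := by group
          _ = 1 := by rw [D.z_sq]; group
      rcases D.cent_four c (hc _) (hc _) with h | h | h | h <;> rw [h]
      · exact one_mul 1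
      · exact D.z_sq
      · exact hz
      · calc D.z * (D.r * D.z * D.r⁻¹) * (D.z * (D.r * D.z * D.r⁻¹))
            = D.z * (D.r * D.z * D.r⁻¹ * D.z) * (D.r * D.z * D.r⁻¹) := by group
          _ = D.z * (D.z * (D.r * D.z * D.r⁻¹)) * (D.r * D.z * D.r⁻¹) := by rw [D.r_comm]
          _ = D.z * D.z * (D.r * D.z * D.r⁻¹ * (D.r * D.z * D.r⁻¹)) := by group
          _ = 1 := by rw [D.z_sq, hz, one_mul]
    rwa [pow_succ, sq, h2, one_mul] at h3
  have hz2 : ∀ a b : Multiplicative (ZMod 2), a ≠ 1 → b ≠ 1 → a = b := by decide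
  have hfst : (e ⟨t, htC⟩).1 ≠ 1 := fun h => ht1
    (congrArg Subtype.val (e.map_eq_one_iff.1 (Prod.ext h hsnd)))
  have htsq : t * t = 1 := by rw [← sq, ← ht, pow_orderOf_eq_one]
  exact ⟨T, ⟨{
    D := D
    φ := φ
    inj := hinj
    t := t
    t_sq := htsq
    t_ne := ht1
    comm := fun l => (mem_centralizer_singleton_iff.1 (e.symm (1, l)).2).symm
    not_mem := fun l h => by
      have h' : e.symm (1, l) = ⟨t, htC⟩ := Subtype.ext h
      exact hfst (by rw [← h', MulEquiv.apply_symm_apply])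
    cent := fun g hg => by
      have hgC : g ∈ centralizer ({t} : Set G) := mem_centralizer_singleton_iff.2 hg
      refine ⟨(e ⟨g, hgC⟩).2, ?_⟩
      by_cases h1 : (e ⟨g, hgC⟩).1 = 1
      · left
        have h2 : (⟨g, hgC⟩ : centralizer ({t} : Set G)) = e.symm (1, (e ⟨g, hgC⟩).2) := by
          rw [MulEquiv.eq_symm_apply]
          exact Prod.ext h1 rfl
        exact congrArg Subtype.val h2
      · right
        have h2 : (⟨g, hgC⟩ : centralizer ({t} : Set G)) =
            ⟨t, htC⟩ * e.symm (1, (e ⟨g, hgC⟩).2) := by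
          apply e.injective
          rw [map_mul, MulEquiv.apply_symm_apply]
          refine Prod.ext ?_ ?_
          · rw [Prod.fst_mul, mul_one]; exact hz2 _ _ h1 hfst
          · rw [Prod.snd_mul, hsnd, one_mul]
        exact congrArg Subtype.val h2
    odd_index := hidx
    one_le := hm
    hT := hT }⟩⟩

/-- The arithmetic. -/
theorem ree_count {q M k c d : ℕ} (hq : 9 ≤ q) (hM : M = (q ^ 3 + 1) * (q - 1)) (hd : d = q ^ 2 - q + 1)
    (hk : k = 1 + q ^ 3 * c) (hc : 1 ≤ c) (hb : k * (q ^ 3 * d) ≤ q ^ 3 * M + k * d ^ 2) : False := by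
  obtain ⟨s, rfl⟩ : ∃ s, q = 9 + s := ⟨q - 9, by omega⟩
  have hd' : d = s * s + 17 * s + 73 := by
    rw [hd, show (9 + s) ^ 2 = (s * s + 17 * s + 72) + (9 + s) by ring, Nat.add_sub_cancel]
  have hM' : M = ((9 + s) ^ 3 + 1) * (8 + s) := by rw [hM]; congr 1; omega
  have hk' : (9 + s) ^ 3 + 1 ≤ k := by
    rw [hk]; nlinarith
  -- `d < q³`, and the difference dominates
  have e : (9 + s) ^ 3 * d = d ^ 2 + d * ((9 + s) ^ 3 - d) := by
    have : d ≤ (9 + s) ^ 3 := by rw [hd']; nlinarith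
    obtain ⟨j, hj⟩ := Nat.exists_eq_add_of_le this
    rw [hj, Nat.add_sub_cancel_left]; ring
  rw [e, mul_add] at hb
  have hb' : k * (d * ((9 + s) ^ 3 - d)) ≤ (9 + s) ^ 3 * M := by omega
  have h1 := (Nat.mul_le_mul_right (d * ((9 + s) ^ 3 - d)) hk').trans hb'
  rw [hM', ← mul_assoc ((9 + s) ^ 3), mul_comm ((9 + s) ^ 3) ((9 + s) ^ 3 + 1), mul_assoc] at h1
  have h2 := Nat.le_of_mul_le_mul_left h1 (Nat.succ_pos _)
  have h3 : (9 + s) ^ 3 - d = s * s * s + 26 * s * s + 226 * s + 656 := by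
    rw [hd', show (9 + s) ^ 3 = (s * s * s + 26 * s * s + 226 * s + 656) + (s * s + 17 * s + 73) by ring,
      Nat.add_sub_cancel]
  rw [h3, hd'] at h2
  have h4 : 73 * (s * s * s + 26 * s * s + 226 * s + 656) ≤
      (s * s + 17 * s + 73) * (s * s * s + 26 * s * s + 226 * s + 656) :=
    Nat.mul_le_mul_right _ (by omega)
  have h5 : (9 + s) ^ 3 * (8 + s) < (s * s + 17 * s + 73) * (s * s * s + 26 * s * s + 226 * s + 656) := by
    nlinarith
  omega

/-- **No group of Ree order with a Ree centralizer has abelian Sylow three-subgroups.** -/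
theorem false_of_ree {G : Type u} [Group G] [Finite G] [IsSimpleGroup G]
    (hna : ¬ IsMulCommutative G) {F : Type} [Field F] [Fintype F] {m : ℕ}
    (hm : 1 ≤ m) (hF : Fintype.card F = 3 ^ (2 * m + 1)) {t : G} (ht : orderOf t = 2)
    (hidx : Odd (centralizer ({t} : Set G)).index)
    (e : centralizer ({t} : Set G) ≃*
      Multiplicative (ZMod 2) × ProjectiveSpecialLinearGroup (Fin 2) F)
    (hord : Nat.card G = (3 ^ (2 * m + 1)) ^ 3 * ((3 ^ (2 * m + 1)) ^ 3 + 1) * (3 ^ (2 * m + 1) - 1))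
    (χ : IrrCharacter G)
    (hd : charDegree (χ : G → ℂ) = (3 ^ (2 * m + 1)) ^ 2 - 3 ^ (2 * m + 1) + 1)
    (hab : ∀ P : Sylow 3 G, ∀ a ∈ (P : Subgroup G), ∀ b ∈ (P : Subgroup G), a * b = b * a) : False := by
  classical
  haveI := Fintype.ofFinite G
  haveI : Fact (Nat.Prime 3) := ⟨Nat.prime_three⟩
  obtain ⟨T, ⟨S⟩⟩ := exists_setup hm hF ht hidx e
  have hti : ∀ P P' : Sylow 3 G, ∀ y : G, y ∈ (P : Subgroup G) → y ∈ (P' : Subgroup G) → y ≠ 1 →
      P' = P := fun P P' y => sylow_three_ti S hna hord hab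
  let P₀ : Sylow 3 G := default
  obtain ⟨c, hc⟩ := card_sylow_eq hti P₀
  have hP := card_sylow_three S hord P₀
  have hb := degree_bound hti hab P₀ χ
  rw [hP] at hc hb
  rw [hord, hd, mul_assoc] at hb
  have h9 : 9 ≤ 3 ^ (2 * m + 1) :=
    le_trans (by norm_num : 9 ≤ 3 ^ 2) (Nat.pow_le_pow_right (by norm_num) (by omega))
  refine ree_count h9 rfl rfl hc ?_ hb
  by_contra hc0
  -- a single Sylow subgroup would be normal
  have h1 : Nat.card (Sylow 3 G) = 1 := by rw [hc, show c = 0 by omega, mul_zero, add_zero]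
  haveI := (Nat.card_eq_one_iff_unique.1 h1).1
  haveI := P₀.normal_of_subsingleton
  rcases IsSimpleGroup.eq_bot_or_eq_top_of_normal (P₀ : Subgroup G) inferInstance with h | h
  · rw [h, card_bot] at hP
    have : 9 ^ 3 ≤ (3 ^ (2 * m + 1)) ^ 3 := Nat.pow_le_pow_left h9 3
    omega
  · exact hna ⟨⟨fun a b => hab P₀ a (h ▸ mem_top a) b (h ▸ mem_top b)⟩⟩

end Cfsg.Lib.AllAb
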