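import Cfsg.Agent.Lib.Coprime.Generation

/-!
# An elementary three-group moved freely by an odd group, acting on an abelian group

If `T` (odd) acts without fixed points on the elementary three-group `U`, and both normalise an abelian
group `R` of odd order prime to three, then either `U` centralises `R` or `7 ^ |T| ≤ |R|`: the orbit
of one hyperplane of `U` gives `|T|` independent pieces of order at least seven.
-/

set_option autoImplicit false
set_option linter.style.haveILetI false
set_option linter.unusedSectionVars false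

namespace Cfsg.Lib.AllAb

open Subgroup
open scoped Pointwise

section Action

variable {R U : Type*} [CommGroup R] [Finite R] [CommGroup U] [Fintype U] [MulDistribMulAction U R]

/-- A hyperplane. -/
def IsHyper (W : Subgroup U) : Prop := ∃ c, c ∉ W ∧ ∀ u, ∃ w ∈ W, ∃ i < 3, u = w * c ^ i

/-- The part of `R` belonging to a hyperplane. -/
def piece (W : Subgroup U) : Subgroup R where
  carrier := {x | (∀ w ∈ W, w • x = x) ∧ ∏ u : U, u • x = 1}
  one_mem' := ⟨fun w _ => smul_one w, by simp⟩
  mul_mem' := fun {x y} hx hy => ⟨fun w hw => by rw [smul_mul', hx.1 w hw, hy.1 w hw], by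
    simp only [smul_mul', Finset.prod_mul_distrib, hx.2, hy.2, mul_one]⟩
  inv_mem' := fun {x} hx => ⟨fun w hw => by rw [smul_inv', hx.1 w hw], by
    simp only [smul_inv', Finset.prod_inv_distrib, hx.2, inv_one]⟩

theorem mem_piece {W : Subgroup U} {x : R} :
    x ∈ piece W ↔ (∀ w ∈ W, w • x = x) ∧ ∏ u : U, u • x = 1 := Iff.rfl

theorem smul_mem_piece {W : Subgroup U} {x : R} (hx : x ∈ piece W) (v : U) : v • x ∈ piece W := by
  refine ⟨fun w hw => ?_, ?_⟩
  · rw [← mul_smul, mul_comm, mul_smul, hx.1 w hw]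
  · rw [← hx.2]
    exact Fintype.prod_equiv (Equiv.mulRight v) _ _ fun u => by rw [← mul_smul]; rfl

theorem eq_one_of_pow_eq_one {x : R} {k : ℕ} (hk : (Nat.card R).Coprime k) (h : x ^ k = 1) : x = 1 := by
  rw [← orderOf_eq_one_iff, ← Nat.dvd_one, ← hk.gcd_eq_one]
  exact Nat.dvd_gcd (orderOf_dvd_natCard x) (orderOf_dvd_of_pow_eq_one h)

/-- Fixed by a generating set and of norm one means trivial. -/
theorem eq_one_of_fixed (hcop : (Nat.card R).Coprime (Nat.card U)) {W : Subgroup U} (hW : IsHyper W)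
    {x : R} {a : U} (haW : a ∉ W) (h3 : ∀ u : U, u ^ 3 = 1) (hfix : ∀ w ∈ W, w • x = x)
    (ha : a • x = x) (hn : ∏ u : U, u • x = 1) : x = 1 := by
  obtain ⟨c, hcW, hc⟩ := hW
  obtain ⟨w, hw, i, hi, rfl⟩ := hc a
  have hc' : c • x = x := by
    have h1 : c ^ i • x = x := by
      rw [mul_smul] at ha
      have h := congrArg (fun y => w⁻¹ • y) ha
      simp only [inv_smul_smul] at h
      rw [h, hfix _ (inv_mem hw)]
    interval_cases i
    · exact absurd (by simpa using hw) haW
    · simpa using h1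
    · have h4 : c ^ 4 • x = x := by rw [show (4 : ℕ) = 2 + 2 from rfl, pow_add, mul_smul, h1, h1]
      rwa [show c ^ 4 = c by rw [pow_succ, h3, one_mul]] at h4
  have hall : ∀ u : U, u • x = x := fun u => by
    obtain ⟨w', hw', j, -, rfl⟩ := hc u
    have hj : c ^ j • x = x := by
      induction j with
      | zero => simp
      | succ j ih => rw [pow_succ, mul_smul, hc', ih]
    rw [mul_smul, hj, hfix w' hw']
  rw [Finset.prod_congr rfl fun u _ => hall u, Finset.prod_const, Finset.card_univ,
    ← Nat.card_eq_fintype_card] at hn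
  exact eq_one_of_pow_eq_one hcop hn

theorem seven_le_card_piece (hcop : (Nat.card R).Coprime (Nat.card U)) (hodd : Odd (Nat.card R))
    (hU : IsPGroup 3 U) (h3 : ∀ u : U, u ^ 3 = 1) {W : Subgroup U} (hW : IsHyper W)
    (hne : piece (R := R) W ≠ ⊥) : 7 ≤ Nat.card (piece (R := R) W) := by
  haveI : Fact (Nat.Prime 3) := ⟨Nat.prime_three⟩
  letI : MulAction U (piece (R := R) W) :=
    { smul := fun u x => ⟨u • (x : R), smul_mem_piece x.2 u⟩
      one_smul := fun x => Subtype.ext (one_smul U (x : R))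
      mul_smul := fun u v x => Subtype.ext (mul_smul u v (x : R)) }
  have h := hU.card_modEq_card_fixedPoints (piece (R := R) W)
  obtain ⟨c, hcW, -⟩ := id hW
  have hfp : MulAction.fixedPoints U (piece (R := R) W) = {1} := by
    refine Set.Subset.antisymm (fun x hx => ?_) (by rintro _ rfl u; exact Subtype.ext (smul_one u))
    refine Subtype.ext (eq_one_of_fixed hcop hW hcW h3 (fun w _ => ?_) ?_ x.2.2)
    · exact congrArg Subtype.val (hx w)
    · exact congrArg Subtype.val (hx c)
  rw [hfp, Nat.card_coe_set_eq, Set.ncard_singleton] at h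
  have ho : Odd (Nat.card (piece (R := R) W)) := hodd.of_dvd_nat (card_subgroup_dvd_card _)
  have h1 : Nat.card (piece (R := R) W) ≠ 1 := fun e => hne (eq_bot_of_card_eq _ e)
  rw [Nat.odd_iff] at ho
  rw [Nat.ModEq] at h
  omega

open Classical in
/-- The pieces of pairwise distinct hyperplanes are independent. -/
theorem pow_card_le (hcop : (Nat.card R).Coprime (Nat.card U)) (hodd : Odd (Nat.card R))
    (hU : IsPGroup 3 U) (h3 : ∀ u : U, u ^ 3 = 1) {ι : Type*} [Fintype ι] (W : ι → Subgroup U)
    (hW : ∀ i, IsHyper (W i)) (hdist : ∀ i j, i ≠ j → ¬ W j ≤ W i)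
    (hne : ∀ i, piece (R := R) (W i) ≠ ⊥) : 7 ^ Fintype.card ι ≤ Nat.card R := by
  let Φ : (∀ i, piece (R := R) (W i)) →* R :=
    { toFun := fun f => ∏ i, (f i : R)
      map_one' := by simp
      map_mul' := fun f g => by simp [Finset.prod_mul_distrib] }
  have hinj : Function.Injective Φ := by
    rw [injective_iff_map_eq_one]
    intro f hf
    funext i
    refine Subtype.ext ?_
    have hkill : ∀ j, i ≠ j → ∏ w : W i, (w : U) • (f j : R) = 1 := by
      intro j hij
      obtain ⟨a, haj, hai⟩ := SetLike.not_le_iff_exists.1 (hdist i j hij)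
      set y := ∏ w : W i, (w : U) • (f j : R)
      refine eq_one_of_fixed hcop (hW i) hai h3 (fun v hv => ?_) ?_ ?_
      · rw [Finset.smul_prod']
        exact Fintype.prod_equiv (Equiv.mulLeft (⟨v, hv⟩ : W i)) _ _ fun w => by
          rw [← mul_smul]; rfl
      · rw [Finset.smul_prod']
        exact Finset.prod_congr rfl fun w _ => by
          rw [← mul_smul, mul_comm, mul_smul, (f j).2.1 a haj]
      · simp only [y, Finset.smul_prod']
        rw [Finset.prod_comm]
        refine Finset.prod_eq_one fun w _ => ?_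
        simp only [smul_smul]
        have h := (f j).2.2
        rw [← h]
        exact Fintype.prod_equiv (Equiv.mulRight (w : U)) _ _ fun u => rfl
    have h1 : ∏ w : W i, (w : U) • Φ f = (f i : R) ^ Nat.card (W i) := by
      show ∏ w : W i, (w : U) • (∏ j, (f j : R)) = _
      simp only [Finset.smul_prod']
      rw [Finset.prod_comm, Fintype.prod_eq_single i fun j hj => hkill j (Ne.symm hj),
        Finset.prod_congr rfl fun (w : W i) _ => (f i).2.1 (w : U) w.2, Finset.prod_const, Finset.card_univ,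
        Nat.card_eq_fintype_card]
    rw [hf] at h1
    simp only [smul_one, Finset.prod_const_one] at h1
    exact eq_one_of_pow_eq_one (hcop.coprime_dvd_right (card_subgroup_dvd_card _)) h1.symm
  have h := Nat.card_le_card_of_injective Φ hinj
  rw [Nat.card_pi] at h
  refine le_trans ?_ h
  rw [← Finset.card_univ, ← Finset.prod_const]
  exact Finset.prod_le_prod (fun i _ => Nat.zero_le _) fun i _ =>
    seven_le_card_piece hcop hodd hU h3 (hW i) (hne i)

end Action

variable {X : Type*} [Group X] [Finite X]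

/-- The alternative for subgroups. -/
theorem centralizes_or_pow_le {R U T : Subgroup X} (hUR : U ≤ normalizer (R : Set X))
    (hTR : T ≤ normalizer (R : Set X)) (hTU : T ≤ normalizer (U : Set X))
    (hRc : ∀ a ∈ R, ∀ b ∈ R, a * b = b * a) (hRodd : Odd (Nat.card R)) (hR3 : ¬ 3 ∣ Nat.card R)
    (hUc : ∀ a ∈ U, ∀ b ∈ U, a * b = b * a) (hU3 : ∀ u ∈ U, u ^ 3 = 1) (hTodd : Odd (Nat.card T))
    (hfree : ∀ s ∈ T, s ≠ 1 → ∀ u ∈ U, s * u = u * s → u = 1) :
    U ≤ centralizer (R : Set X) ∨ 7 ^ Nat.card T ≤ Nat.card R := by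
  classical
  haveI : Fact (Nat.Prime 3) := ⟨Nat.prime_three⟩
  haveI : IsMulCommutative U := ⟨⟨fun a b => Subtype.ext (hUc a a.2 b b.2)⟩⟩
  letI : CommGroup U :=
    { (inferInstance : Group U) with mul_comm := fun a b => Subtype.ext (hUc a a.2 b b.2) }
  letI : CommGroup R :=
    { (inferInstance : Group R) with mul_comm := fun a b => Subtype.ext (hRc a a.2 b b.2) }
  haveI := Fintype.ofFinite U
  haveI := Fintype.ofFinite T
  have h3 : ∀ u : U, u ^ 3 = 1 := fun u => Subtype.ext (hU3 u u.2)
  have hU : IsPGroup 3 U := fun u => ⟨1, by rw [pow_one]; exact h3 u⟩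
  have hcop : (Nat.card R).Coprime (Nat.card U) := by
    obtain ⟨k, hk⟩ := IsPGroup.iff_card.1 hU
    rw [hk]
    exact Nat.Coprime.pow_right k ((Nat.Prime.coprime_iff_not_dvd Nat.prime_three).2 hR3).symm
  by_cases hcen : U ≤ centralizer (R : Set X)
  · exact Or.inl hcen
  refine Or.inr ?_
  -- a hyperplane
  obtain ⟨B, ⟨hBU, c, hcU, hBc⟩, hB⟩ : ∃ B ∈ Coprime.cocyclic U,
      ¬ (R ⊓ centralizer (B : Set X) : Subgroup X) ≤ centralizer (U : Set X) := by
    by_contra hcon
    push Not at hcon
    refine hcen (le_centralizer_iff.1 ((Coprime.le_iSup_centralizer_cocyclic R hUR hcop.symm).trans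
      (iSup₂_le fun B hB => hcon B hB)))
  obtain ⟨x, ⟨hxR, hxB⟩, hxU⟩ := SetLike.not_le_iff_exists.1 hB
  have hcB : c ∉ B := fun h => hxU (by
    rw [← hBc, sup_eq_left.2 (zpowers_le.2 h)]
    exact hxB)
  have hcU' : c ∈ U := hcU
  let W : Subgroup U := B.subgroupOf U
  have hW : IsHyper W := by
    refine ⟨⟨c, hcU'⟩, hcB, fun u => ?_⟩
    have hn : zpowers c ≤ normalizer (B : Set X) := fun z hz =>
      centralizer_le_normalizer _ (mem_centralizer_iff.2 fun b hb =>
        hUc b (hBU hb) z (zpowers_le.2 hcU' hz))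
    have hu : (u : X) ∈ ((B : Set X) * (zpowers c : Set X)) := by
      rw [← Subgroup.coe_mul_of_right_le_normalizer_left _ _ hn, hBc]
      exact u.2
    obtain ⟨b, hb, z, hz, hbz⟩ := hu
    obtain ⟨k, rfl⟩ := mem_zpowers_iff.1 hz
    refine ⟨⟨b, hBU hb⟩, hb, (k % 3).toNat, by omega, Subtype.ext ?_⟩
    show (u : X) = b * c ^ (k % 3).toNat
    rw [← hbz]
    congr 1
    rw [← zpow_natCast, Int.toNat_of_nonneg (Int.emod_nonneg k (by norm_num))]
    conv_lhs => rw [← Int.emod_add_mul_ediv k 3]
    rw [zpow_add, zpow_mul, show c ^ (3 : ℤ) = 1 from by exact_mod_cast hU3 c hcU', one_zpow, mul_one]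
  let actU : U →* MulAut R := R.normalizerMonoidHom.comp (inclusion hUR)
  letI : MulDistribMulAction U R := MulDistribMulAction.compHom R actU
  have hsmul : ∀ (u : U) (y : R), ((u • y : R) : X) = (u : X) * y * (u : X)⁻¹ := fun u y => rfl
  -- the transports
  let α : T →* MulAut U := U.normalizerMonoidHom.comp (inclusion hTU)
  let β : T →* MulAut R := R.normalizerMonoidHom.comp (inclusion hTR)
  have hαc : ∀ (s : T) (u : U), ((α s u : U) : X) = (s : X) * u * (s : X)⁻¹ := fun s u => rfl
  have hβc : ∀ (s : T) (y : R), ((β s y : R) : X) = (s : X) * y * (s : X)⁻¹ := fun s y => rfl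
  have hcompat : ∀ (s : T) (u : U) (y : R), β s (u • y) = α s u • β s y := fun s u y =>
    Subtype.ext (by rw [hβc, hsmul, hsmul, hαc, hβc]; group)
  let Wf : T → Subgroup U := fun s => W.map (α s).toMonoidHom
  have hWf : ∀ s, IsHyper (Wf s) := fun s => by
    obtain ⟨c', hc', hcc⟩ := hW
    refine ⟨α s c', fun ⟨w, hw, he⟩ => hc' ((α s).injective he ▸ hw), fun u => ?_⟩
    obtain ⟨w, hw, i, hi, he⟩ := hcc ((α s).symm u)
    refine ⟨α s w, ⟨w, hw, rfl⟩, i, hi, ?_⟩
    rw [← map_pow, ← map_mul, ← he, MulEquiv.apply_symm_apply]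
  -- the base piece
  have hne : ∀ s, piece (R := R) (Wf s) ≠ ⊥ := by
    intro s hbot
    set y : R := ⟨x, hxR⟩
    have hyW : ∀ w ∈ W, w • y = y := fun w hw => Subtype.ext (by
      rw [hsmul]
      exact mul_inv_eq_iff_eq_mul.2 (mem_centralizer_iff.1 hxB _ hw))
    set a : U := ⟨c, hcU'⟩
    have hz : y * (a • y)⁻¹ ∈ piece (R := R) W := by
      refine ⟨fun w hw => ?_, ?_⟩
      · rw [smul_mul', smul_inv', hyW w hw, ← mul_smul, mul_comm w a, mul_smul, hyW w hw]
      · simp only [smul_mul', smul_inv', Finset.prod_mul_distrib, Finset.prod_inv_distrib]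
        rw [mul_inv_eq_one]
        exact (Fintype.prod_equiv (Equiv.mulRight a) _ _ fun u => by rw [← mul_smul]; rfl).symm
    have hz' : β s (y * (a • y)⁻¹) ∈ piece (R := R) (Wf s) := by
      refine ⟨?_, ?_⟩
      · rintro _ ⟨w, hw, rfl⟩
        show α s w • _ = _
        rw [← hcompat, hz.1 w hw]
      · have h := congrArg (β s) hz.2
        rw [map_one, map_prod] at h
        rw [← h]
        exact (Fintype.prod_equiv (α s).toEquiv _ _ fun u => hcompat s u _).symm
    rw [hbot, mem_bot, map_eq_one_iff _ (β s).injective, mul_inv_eq_one] at hz'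
    refine hxU (mem_centralizer_iff.2 fun u hu => ?_)
    have hall : ∀ v : U, v • y = y := fun v => by
      obtain ⟨w', hw', j, -, hv⟩ : ∃ w' ∈ W, ∃ j : ℕ, True ∧ v = w' * a ^ j := by
        have h1 : (v : X) ∈ ((B : Set X) * (zpowers c : Set X)) := by
          rw [← Subgroup.coe_mul_of_right_le_normalizer_left _ _ (fun z hz =>
            centralizer_le_normalizer _ (mem_centralizer_iff.2 fun b hb =>
              hUc b (hBU hb) z (zpowers_le.2 hcU' hz))), hBc]
          exact v.2
        obtain ⟨b, hb, z, hz, hbz⟩ := h1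
        obtain ⟨j, rfl⟩ := Submonoid.mem_powers_iff _ _ |>.1
          ((isOfFinOrder_of_finite c).mem_powers_iff_mem_zpowers.2 hz)
        exact ⟨⟨b, hBU hb⟩, hb, j, trivial, Subtype.ext (by simp [a, hbz])⟩
      have hj : a ^ j • y = y := by
        clear hv
        induction j with
        | zero => simp
        | succ j ih => rw [pow_succ, mul_smul, ← hz', ih]
      rw [hv, mul_smul, hj, hyW w' hw']
    exact mul_inv_eq_iff_eq_mul.1 (congrArg Subtype.val (hall ⟨u, hu⟩))
  have hdist : ∀ i j, i ≠ j → ¬ Wf j ≤ Wf i := by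
    intro i j hij hle
    set s := i⁻¹ * j with hs
    have hs1 : s ≠ 1 := fun h => hij (inv_mul_eq_one.1 h)
    have hinv : ∀ w ∈ W, α s w ∈ W := fun w hw => by
      obtain ⟨w', hw', he⟩ := hle ⟨w, hw, rfl⟩
      have : α s w = w' := by
        rw [hs, map_mul, MulAut.mul_apply, map_inv]
        exact (MulEquiv.symm_apply_eq (α i)).2 he.symm
      rwa [this]
    obtain ⟨c', hc', hcc⟩ := hW
    obtain ⟨w₁, hw₁, k, hk, he⟩ := hcc (α s c')
    have hs2 : (s * s : T) ≠ 1 := fun h => hs1 (by
      obtain ⟨r, hr⟩ := hTodd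
      have := pow_card_eq_one' (x := s)
      rwa [hr, pow_succ, pow_mul, pow_two, h, one_pow, one_mul] at this)
    have hinv2 : ∀ w ∈ W, α (s * s) w ∈ W := fun w hw => by
      rw [map_mul]; exact hinv _ (hinv w hw)
    have hc2 : α (s * s) c' * c'⁻¹ ∈ W := by
      rw [map_mul, MulAut.mul_apply, he, map_mul, map_pow, he, mul_pow, ← pow_mul]
      have hkk : c' ^ (k * k) * c'⁻¹ ∈ W := by
        interval_cases k
        · exfalso
          rw [pow_zero, mul_one] at he
          refine hc' ?_
          obtain ⟨r, hr⟩ := hTodd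
          have hiter : ∀ n : ℕ, α (s ^ (n + 1)) c' ∈ W := by
            intro n
            induction n with
            | zero => rw [pow_one, he]; exact hw₁
            | succ n ih => rw [pow_succ', map_mul]; exact hinv _ ih
          have h1 := hiter (2 * r)
          rwa [← hr, pow_card_eq_one', map_one] at h1
        · simp [one_mem]
        · rw [show c' ^ (2 * 2) = c' by rw [show 2 * 2 = 3 + 1 from rfl, pow_succ, h3, one_mul]]
          simp [one_mem]
      rw [mul_assoc, mul_assoc]
      exact mul_mem (hinv _ hw₁) (mul_mem (pow_mem hw₁ _) hkk)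
    let δ : U →* U :=
      { toFun := fun u => α (s * s) u * u⁻¹
        map_one' := by simp
        map_mul' := fun u v => by rw [map_mul, _root_.mul_inv_rev, mul_comm v⁻¹]; exact mul_mul_mul_comm _ _ _ _ }
    have hδ : Function.Injective δ := by
      rw [injective_iff_map_eq_one]
      intro u hu
      have hu' : α (s * s) u = u := mul_inv_eq_one.1 hu
      exact Subtype.ext (hfree _ (s * s).2 (fun h => hs2 (Subtype.ext h)) u u.2
        (mul_inv_eq_iff_eq_mul.1 (congrArg Subtype.val hu')))
    have hδW : ∀ u, δ u ∈ W := by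
      intro u
      obtain ⟨w, hw, n, -, rfl⟩ := hcc u
      rw [map_mul, map_pow]
      exact mul_mem (mul_mem (hinv2 w hw) (inv_mem hw)) (pow_mem hc2 n)
    obtain ⟨u, hu⟩ := (Finite.injective_iff_surjective.1 hδ) c'
    exact hc' (hu ▸ hδW u)
  have h := pow_card_le hcop hRodd hU h3 Wf hWf hdist hne
  rwa [← Nat.card_eq_fintype_card] at h

end Cfsg.Lib.AllAb
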