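import Cfsg.Agent.Lib.Core.PSolvable

/-!
# Abelian Sylow subgroups of solvable groups

Modulo `O_{p'}` the Sylow subgroup is normal, so it is normal as soon as it centralizes `O_{p'}`.
-/

set_option autoImplicit false
set_option linter.style.haveILetI false

namespace Cfsg.Lib.AllAb

open Subgroup Cfsg
open scoped commutatorElement

variable {X : Type*} [Group X] [Finite X] [Group.IsSolvable X] {p : ℕ} [Fact p.Prime] (P : Sylow p X)
  (hP : ∀ a ∈ (P : Subgroup X), ∀ b ∈ (P : Subgroup X), a * b = b * a)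

include hP in
theorem map_core_normal : ((P : Subgroup X).map (QuotientGroup.mk' (pPrimeCore p X))).Normal := by
  set f := QuotientGroup.mk' (pPrimeCore p X) with hf
  haveI : Group.IsSolvable (X ⧸ pPrimeCore p X) :=
    Group.isSolvable_of_surjective (QuotientGroup.mk'_surjective _)
  have hHH := Cfsg.Lib.Core.centralizer_pCore_le_of_isPSolvable
    (Cfsg.Lib.Core.isPSolvable_of_isSolvable (p := p) (G := X ⧸ pPrimeCore p X))
    Cfsg.Lib.Core.pPrimeCore_quotient_eq_bot
  let Q : Sylow p (X ⧸ pPrimeCore p X) := P.mapSurjective (QuotientGroup.mk'_surjective _)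
  have hQcore : pCore p (X ⧸ pPrimeCore p X) ≤ (P : Subgroup X).map f := Cfsg.Lib.Core.pCore_le_sylow Q
  have hle : (P : Subgroup X).map f ≤ pCore p (X ⧸ pPrimeCore p X) := by
    refine le_trans (fun q hq => mem_centralizer_iff.2 fun r hr => ?_) hHH
    obtain ⟨a, ha, rfl⟩ := hq
    obtain ⟨b, hb, rfl⟩ := hQcore hr
    rw [← map_mul, ← map_mul, hP b hb a ha]
  rw [le_antisymm hle hQcore]
  infer_instance

include hP in
/-- A `p'`-element of a `p'`-subgroup normalized by `P` commutes with `P` modulo the core. -/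
theorem commutator_mem_core (M : Subgroup X) (hM : ¬ p ∣ Nat.card M)
    (hPM : (P : Subgroup X) ≤ normalizer (M : Set X)) {x m : X} (hx : x ∈ (P : Subgroup X))
    (hm : m ∈ M) : ⁅x, m⁆ ∈ pPrimeCore p X := by
  set f := QuotientGroup.mk' (pPrimeCore p X)
  haveI := map_core_normal P hP
  have h1 : ⁅x, m⁆ ∈ M := mul_mem ((mem_normalizer_iff.1 (hPM hx) _).1 hm) (inv_mem hm)
  have h2 : f ⁅x, m⁆ ∈ (P : Subgroup X).map f := by
    rw [map_commutatorElement, commutatorElement_def, mul_assoc, mul_assoc, ← mul_assoc (f m)]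
    exact mul_mem (mem_map_of_mem f hx) (Normal.conj_mem ‹_› _ (inv_mem (mem_map_of_mem f hx)) _)
  rw [← QuotientGroup.eq_one_iff]
  show f ⁅x, m⁆ = 1
  rw [← orderOf_eq_one_iff]
  obtain ⟨k, hk⟩ := (P.2.map f) ⟨_, h2⟩
  have ha : orderOf (f ⁅x, m⁆) ∣ p ^ k := orderOf_dvd_of_pow_eq_one (congrArg Subtype.val hk)
  have hb : orderOf (f ⁅x, m⁆) ∣ Nat.card M :=
    (orderOf_map_dvd f _).trans (Subgroup.orderOf_dvd_natCard _ h1)
  exact Nat.dvd_one.1 ((Nat.Coprime.pow_left k
    ((Nat.Prime.coprime_iff_not_dvd Fact.out).2 hM)).gcd_eq_one ▸ Nat.dvd_gcd ha hb)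

include hP in
/-- Centralizing the core makes the Sylow subgroup normal. -/
theorem normal_of_centralizes_core
    (h : (P : Subgroup X) ≤ centralizer (pPrimeCore p X : Set X)) : (P : Subgroup X).Normal := by
  refine ⟨fun x hx g => ?_⟩
  obtain ⟨x', hx', he⟩ := (map_core_normal P hP).conj_mem _ (mem_map_of_mem _ hx)
    (QuotientGroup.mk' (pPrimeCore p X) g)
  set m := x'⁻¹ * (g * x * g⁻¹) with hm
  have hmM : m ∈ pPrimeCore p X := QuotientGroup.eq.1 (by
    rw [QuotientGroup.mk'_apply] at he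
    rw [he]; rfl)
  obtain ⟨i, hi⟩ := P.2 ⟨x', hx'⟩
  obtain ⟨j, hj⟩ := P.2 ⟨x, hx⟩
  have hi' : x' ^ p ^ (i + j) = 1 := by
    rw [pow_add, pow_mul, show x' ^ p ^ i = 1 from congrArg Subtype.val hi, one_pow]
  have hy : (g * x * g⁻¹) ^ p ^ (i + j) = 1 := by
    rw [conj_pow, add_comm, pow_add, pow_mul, show x ^ p ^ j = 1 from congrArg Subtype.val hj, one_pow,
      mul_one, mul_inv_cancel]
  have hc : Commute x' m := (mem_centralizer_iff.1 (h hx') m hmM).symm
  rw [show g * x * g⁻¹ = x' * m by rw [hm]; group, hc.mul_pow, hi', one_mul] at hy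
  have hm1 : m = 1 := by
    rw [← orderOf_eq_one_iff]
    exact Nat.dvd_one.1 ((Nat.Coprime.pow_left (i + j)
      ((Nat.Prime.coprime_iff_not_dvd Fact.out).2 (Cfsg.Lib.Core.pPrimeCore_not_dvd p X))).gcd_eq_one ▸
      Nat.dvd_gcd (orderOf_dvd_of_pow_eq_one hy) (Subgroup.orderOf_dvd_natCard _ hmM))
  rw [show g * x * g⁻¹ = x' * m by rw [hm]; group, hm1, mul_one]
  exact hx'

end Cfsg.Lib.AllAb
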