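import Cfsg.Agent.Lib.ReeType.Three
import Cfsg.Agent.Lib.ReeType.Count
import Cfsg.Agent.Lib.AllAb.Hyperplane
import Cfsg.Agent.Lib.AllAb.Solv
import Cfsg.Agent.S0205

/-!
# An abelian Sylow three-subgroup in a group of Ree type and Ree order is a TI-subgroup

The centralizer of each nontrivial element normalizes the Sylow subgroup: for `C(U)` because
`O(C(U))/U` is inverted by `t`, for `C(u)` because the core is inverted by `t`, hence centralized by
the inverted part `V`, and because `U` centralizes the core of `C(V)` by the hyperplane count.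
-/

set_option autoImplicit false
set_option linter.style.haveILetI false
set_option linter.unusedSectionVars false

namespace Cfsg.Lib.AllAb

open Subgroup Cfsg
open scoped commutatorElement

/-- A number bound. -/
theorem order_bound {h : ℕ} (h13 : 13 ≤ h) : 2 * (2 * h + 1) ^ 4 < 7 ^ h := by
  induction h, h13 using Nat.le_induction with
  | base => norm_num
  | succ h hh ih =>
    have h1 : (2 * (h + 1) + 1) ^ 4 ≤ 7 * (2 * h + 1) ^ 4 := by
      have hb : 3 * (2 * (h + 1) + 1) ≤ 4 * (2 * h + 1) := by omega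
      have := Nat.pow_le_pow_left hb 4
      rw [mul_pow, mul_pow] at this
      norm_num at this
      generalize (2 * (h + 1) + 1) ^ 4 = A at this ⊢
      generalize (2 * h + 1) ^ 4 = B at this ⊢
      omega
    rw [pow_succ 7 h]
    nlinarith

/-- Normalizing a subgroup normalizes its characteristic subgroups. -/
theorem le_normalizer_core {G : Type*} [Group G] [Finite G] (K : Subgroup G) (p : ℕ) :
    normalizer (K : Set G) ≤ normalizer ((pPrimeCore p K).map K.subtype : Set G) := by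
  intro g hg
  refine Cfsg.Lib.Fusion.le_normalizer_of_conj_mem fun x hx => ?_
  obtain ⟨y, hy, rfl⟩ := hx
  set a : MulAut K := K.normalizerMonoidHom ⟨g, hg⟩
  refine ⟨a y, ?_, rfl⟩
  haveI : (pPrimeCore p K).Characteristic := Cfsg.Lib.Core.pPrimeCore_characteristic
  have h : y ∈ (pPrimeCore p K).comap a.toMonoidHom := by
    rw [Subgroup.Characteristic.fixed ‹_› a]; exact hy
  exact h

/-- An involution without fixed points inverts. -/
theorem inverted_of_fpf {G : Type*} [Group G] [Finite G] {t : G} (ht : t * t = 1) (M : Subgroup G)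
    (hM : t ∈ normalizer (M : Set G)) (hfix : ∀ m ∈ M, m * t = t * m → m = 1) :
    ∀ m ∈ M, t * m * t⁻¹ = m⁻¹ := by
  set φ : M →* M := (M.normalizerMonoidHom ⟨t, hM⟩).toMonoidHom
  have hφ : ∀ x : M, (φ x : G) = t * x * t⁻¹ := fun x => rfl
  have hti : t⁻¹ = t := inv_eq_of_mul_eq_one_right ht
  have hfp : MonoidHom.FixedPointFree φ := fun x hx => Subtype.ext (hfix x x.2 (by
    have h := congrArg Subtype.val hx
    rw [hφ] at h
    exact (mul_inv_eq_iff_eq_mul.1 h).symm))
  have hinv : Function.Involutive φ := fun x => Subtype.ext (by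
    rw [hφ, hφ]
    calc t * (t * x * t⁻¹) * t⁻¹ = t * t * x * (t⁻¹ * t⁻¹) := by group
      _ = x := by rw [hti, ht, one_mul, mul_one])
  intro m hm
  have h := congrArg Subtype.val (congrFun (hfp.coe_eq_inv_of_involutive hinv) ⟨m, hm⟩)
  exact h

variable {G L : Type*} [Group G] [Group L] [Finite G] {n T : ℕ} (S : ReeType.Setup G L n T)
  (hna : ¬ IsMulCommutative G)
  (hord : Nat.card G = (3 ^ (2 * n + 1)) ^ 3 * ((3 ^ (2 * n + 1)) ^ 3 + 1) * (3 ^ (2 * n + 1) - 1))
  (hab : ∀ P : Sylow 3 G, ∀ a ∈ (P : Subgroup G), ∀ b ∈ (P : Subgroup G), a * b = b * a)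
include S

theorem card_sylow_three (hord : Nat.card G = (3 ^ (2 * n + 1)) ^ 3 * ((3 ^ (2 * n + 1)) ^ 3 + 1) *
    (3 ^ (2 * n + 1) - 1)) (P : Sylow 3 G) : Nat.card (P : Subgroup G) = (3 ^ (2 * n + 1)) ^ 3 := by
  haveI : Fact (Nat.Prime 3) := ⟨Nat.prime_three⟩
  rw [P.card_eq_multiplicity, hord, mul_assoc, ← pow_mul,
    Nat.factorization_mul (by positivity) ?_, Nat.Prime.factorization_pow Nat.prime_three]
  · have hq : 3 ∣ 3 ^ (2 * n + 1) := dvd_pow_self 3 (by omega)
    have h2 : ((3 ^ ((2 * n + 1) * 3) + 1) * (3 ^ (2 * n + 1) - 1)).factorization 3 = 0 := by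
      refine Nat.factorization_eq_zero_of_not_dvd fun h => ?_
      rcases (Nat.Prime.dvd_mul Nat.prime_three).1 h with h | h
      · have : 3 ∣ 3 ^ ((2 * n + 1) * 3) := dvd_pow_self 3 (by omega)
        omega
      · have := S.q_facts.2.1
        omega
    simp [h2]
  · have := S.q_facts.2.1
    exact Nat.mul_ne_zero (Nat.succ_ne_zero _) (Nat.sub_ne_zero_of_lt (by omega))

/-- An element of odd order centralizing `t` and an element of `U` lies in `U`. -/
theorem mem_three_of_cent {g u : G} (hu : u ∈ S.threeSub) (hu1 : u ≠ 1) (hgt : g * S.t = S.t * g)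
    (hgu : g * u = u * g) (hodd : Odd (orderOf g)) : g ∈ S.threeSub := by
  obtain ⟨v, hv, rfl | rfl⟩ := S.cent_t_three hu hu1 hgt hgu
  · exact ⟨v, hv, rfl⟩
  · exfalso
    obtain ⟨c, hc⟩ := hodd
    have h := pow_orderOf_eq_one (S.t * S.φ v)
    rw [(show Commute S.t (S.φ v) from S.comm v).mul_pow, ← map_pow, hc, pow_succ, pow_mul, sq,
      S.t_sq, one_pow, one_mul] at h
    exact S.t_mul_φ_ne (v ^ (2 * c + 1)) 1 (by rw [map_one]; exact h)

theorem threeSub_noncyclic : ¬ IsCyclic S.threeSub := fun hc => by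
  obtain ⟨g, hg⟩ := IsCyclic.exists_ofOrder_eq_natCard (α := S.threeSub)
  rw [S.card_threeSub] at hg
  have h : orderOf g ∣ 3 := orderOf_dvd_of_pow_eq_one (Subtype.ext (S.threeSub_cube g.2))
  have := Nat.le_of_dvd (by norm_num) h
  have := S.q_facts.2.1
  omega

/-- A `3'`-subgroup of odd order normalized by `U` meets `C(t)` trivially. -/
theorem cent_t_trivial (M : Subgroup G) (hUM : S.threeSub ≤ normalizer (M : Set G))
    (hodd : Odd (Nat.card M)) (h3 : ¬ 3 ∣ Nat.card M) :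
    ∀ m ∈ M, m * S.t = S.t * m → m = 1 := by
  haveI : IsMulCommutative S.threeSub := ⟨⟨fun a b => Subtype.ext (S.threeSub_comm a.2 b.2)⟩⟩
  intro m hm hmt
  set M' := M ⊓ centralizer ({S.t} : Set G) with hM'
  have hUM' : S.threeSub ≤ normalizer (M' : Set G) := fun x hx => by
    refine Cfsg.Lib.Fusion.le_normalizer_of_conj_mem fun y hy => ?_
    refine ⟨(mem_normalizer_iff.1 (hUM hx) y).1 hy.1, mem_centralizer_singleton_iff.2 ?_⟩
    have h1 := (S.t_threeSub hx).symm
    have h2 := mem_centralizer_singleton_iff.1 hy.2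
    calc x * y * x⁻¹ * S.t = x * (y * S.t) * x⁻¹ := by
          rw [mul_assoc _ x⁻¹, (Commute.inv_left h1 : x⁻¹ * S.t = S.t * x⁻¹)]; group
      _ = x * (S.t * y) * x⁻¹ := by rw [h2]
      _ = S.t * (x * y * x⁻¹) := by rw [← mul_assoc x, h1]; group
  have hcop : (Nat.card S.threeSub).Coprime (Nat.card M') := by
    rw [S.card_threeSub]
    exact Nat.Coprime.pow_left _ ((Nat.Prime.coprime_iff_not_dvd Nat.prime_three).2 fun h =>
      h3 (h.trans (card_dvd_of_le inf_le_left)))
  have hbot : M' ≤ ⊥ := by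
    refine (Coprime.le_iSup_centralizer_of_not_isCyclic (threeSub_noncyclic S) hUM' hcop).trans
      (iSup_le fun a => fun g hg => mem_bot.2 ?_)
    have hgo : Odd (orderOf g) :=
      hodd.of_dvd_nat (Subgroup.orderOf_dvd_natCard _ hg.1.1)
    obtain ⟨k, hk⟩ := IsPGroup.iff_card.1 S.isPGroup_threeSub
    have hgU := mem_three_of_cent S a.2.1 a.2.2 (mem_centralizer_singleton_iff.1 hg.1.2)
      (mem_centralizer_singleton_iff.1 hg.2) hgo
    rw [← orderOf_eq_one_iff, ← Nat.dvd_one, ← hcop.gcd_eq_one]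
    exact Nat.dvd_gcd (Subgroup.orderOf_dvd_natCard _ hgU) (Subgroup.orderOf_dvd_natCard _ hg.1)
  exact mem_bot.1 (hbot ⟨hm, mem_centralizer_singleton_iff.2 hmt⟩)

include hab in
/-- There is one Sylow three-subgroup containing `U`. -/
theorem sylow_unique_above {P P' : Sylow 3 G} (hP : S.threeSub ≤ (P : Subgroup G))
    (hP' : S.threeSub ≤ (P' : Subgroup G)) : P' = P := by
  haveI : Fact (Nat.Prime 3) := ⟨Nat.prime_three⟩
  haveI : Fact (Nat.Prime 2) := ⟨Nat.prime_two⟩
  set H := centralizer (S.threeSub : Set G) with hH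
  have hle : ∀ Q : Sylow 3 G, S.threeSub ≤ (Q : Subgroup G) → (Q : Subgroup G) ≤ H := fun Q hQ x hx =>
    mem_centralizer_iff.2 fun u hu => hab Q u (hQ hu) x hx
  obtain ⟨R, hR⟩ := S.sylow_two_order_two H S.t_mem_centralizer_three S.centralizer_three_hyp
  obtain ⟨M, hMn, hMi, hModd, hM⟩ := ReeType.exists_odd_complement R hR (by rw [orderOf_mk, S.orderOf_t])
  set U' := S.threeSub.subgroupOf H with hU'
  have hUc : U' ≤ center H := fun u hu => mem_center_iff.2 fun g =>
    Subtype.ext (mem_centralizer_iff.1 g.2 _ hu).symm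
  set U'' := U'.subgroupOf M with hU''
  haveI : U''.Normal := ⟨fun u hu g => by
    have hc : (g : H) * (u : H) = (u : H) * (g : H) := mem_center_iff.1 (hUc hu) g
    have h : (g : H) * (u : H) * (g : H)⁻¹ = u := by
      rw [hc, mul_inv_cancel_right]
    show (g : H) * (u : H) * (g : H)⁻¹ ∈ U'
    rw [h]; exact hu⟩
  set tH : H := ⟨S.t, S.t_mem_centralizer_three⟩ with htH
  set φ : M →* M := (MulAut.conjNormal tH).toMonoidHom
  have hφ : ∀ x : M, (((φ x : M) : H) : G) = S.t * ((x : H) : G) * S.t⁻¹ := fun x => rfl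
  have hφU : U'' ≤ U''.comap φ := fun u hu => by
    show ((φ u : M) : H) ∈ U'
    show (((φ u : M) : H) : G) ∈ S.threeSub
    have hc : S.t * ((u : H) : G) = ((u : H) : G) * S.t := S.t_threeSub hu
    rw [hφ, hc, mul_inv_cancel_right]
    exact hu
  set ψ := QuotientGroup.map U'' U'' φ hφU
  have hfp : MonoidHom.FixedPointFree ψ := by
    intro x hx
    obtain ⟨g, rfl⟩ := QuotientGroup.mk_surjective x
    rw [QuotientGroup.map_mk, QuotientGroup.eq] at hx
    set z : G := ((((φ g)⁻¹ * g : M) : H) : G) with hz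
    have hzU : z ∈ S.threeSub := hx
    have hgz : S.t * ((g : H) : G) * S.t⁻¹ = ((g : H) : G) * z⁻¹ := by
      rw [← hφ, hz]; simp
    have hzg : ((g : H) : G) * z = z * ((g : H) : G) := (mem_centralizer_iff.1 (g : H).2 z hzU).symm
    have hz2 : z * z = 1 := by
      have h : S.t * (S.t * ((g : H) : G) * S.t⁻¹) * S.t⁻¹ = (g : H) := by
        rw [S.t_inv]
        calc S.t * (S.t * ((g : H) : G) * S.t) * S.t = S.t * S.t * (g : H) * (S.t * S.t) := by group
          _ = (g : H) := by rw [S.t_sq, one_mul, mul_one]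
      rw [hgz, show S.t * (((g : H) : G) * z⁻¹) * S.t⁻¹ =
        S.t * (g : H) * S.t⁻¹ * (S.t * z⁻¹ * S.t⁻¹) by group, hgz,
        S.t_threeSub (inv_mem hzU), mul_inv_cancel_right, mul_assoc, mul_eq_left] at h
      calc z * z = (z⁻¹ * z⁻¹)⁻¹ := by rw [mul_inv_rev, inv_inv]
        _ = 1 := by rw [h, inv_one]
    have hz1 : z = 1 := by
      calc z = z ^ 3 * (z * z)⁻¹ := by group
        _ = 1 := by rw [S.threeSub_cube hzU, hz2]; group
    rw [hz1, inv_one, mul_one] at hgz
    obtain ⟨u, hu, hu1⟩ := S.exists_ne_one_threeSub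
    rw [QuotientGroup.eq_one_iff]
    refine mem_three_of_cent S hu hu1 (mul_inv_eq_iff_eq_mul.1 hgz).symm
      (mem_centralizer_iff.1 (g : H).2 u hu).symm ?_
    show Odd (orderOf ((g : H) : G))
    rw [Subgroup.orderOf_coe, Subgroup.orderOf_coe]
    exact hModd.of_dvd_nat (orderOf_dvd_natCard g)
  have hinv : Function.Involutive ψ := fun x => by
    obtain ⟨g, rfl⟩ := QuotientGroup.mk_surjective x
    rw [QuotientGroup.map_mk, QuotientGroup.map_mk]
    refine congrArg _ (Subtype.ext (Subtype.ext ?_))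
    rw [hφ, hφ, S.t_inv]
    calc S.t * (S.t * ((g : H) : G) * S.t) * S.t = S.t * S.t * (g : H) * (S.t * S.t) := by group
      _ = (g : H) := by rw [S.t_sq, one_mul, mul_one]
  have hcomm : ∀ a b : M, ⁅a, b⁆ ∈ U'' := fun a b => by
    rw [← QuotientGroup.eq_one_iff]
    show QuotientGroup.mk' U'' ⁅a, b⁆ = 1
    rw [map_commutatorElement, commutatorElement_eq_one_iff_mul_comm]
    exact hfp.commute_all_of_involutive hinv _ _
  have hmem : ∀ (Q : Sylow 3 G) (hQ : S.threeSub ≤ (Q : Subgroup G)) (x : G) (hx : x ∈ (Q : Subgroup G)),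
      (⟨x, hle Q hQ hx⟩ : H) ∈ M := fun Q hQ x hx => hM _ (by
    rw [orderOf_mk]
    obtain ⟨k, hk⟩ := Q.2 ⟨x, hx⟩
    exact Odd.of_dvd_nat (Odd.pow (n := k) ⟨1, rfl⟩)
      (orderOf_dvd_of_pow_eq_one (congrArg Subtype.val hk)))
  have hnorm : (P' : Subgroup G) ≤ normalizer ((P : Subgroup G) : Set G) := by
    intro x hx
    refine Cfsg.Lib.Fusion.le_normalizer_of_conj_mem fun y hy => ?_
    have hc := hcomm ⟨_, hmem P' hP' x hx⟩ ⟨_, hmem P hP y hy⟩
    have hc' : x * y * x⁻¹ * y⁻¹ ∈ S.threeSub := hc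
    simpa using mul_mem (hP hc') hy
  have hsup := P'.2.to_sup_of_normal_right' P.2 hnorm
  have h : (P' : Subgroup G) ≤ (P : Subgroup G) := le_sup_left.trans (P.3 hsup le_sup_right).le
  exact Sylow.ext (P'.3 P.2 h).symm

/-- The inverted part. -/
def invPart (P : Sylow 3 G) (hc : ∀ a ∈ (P : Subgroup G), ∀ b ∈ (P : Subgroup G), a * b = b * a) :
    Subgroup G where
  carrier := {x | x ∈ (P : Subgroup G) ∧ S.t * x * S.t⁻¹ = x⁻¹}
  one_mem' := ⟨one_mem _, by group⟩
  mul_mem' := fun {a b} ha hb => ⟨mul_mem ha.1 hb.1, by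
    rw [ReeType.conj_mul', ha.2, hb.2, hc a⁻¹ (inv_mem ha.1) b⁻¹ (inv_mem hb.1), mul_inv_rev]⟩
  inv_mem' := fun {a} ha => ⟨inv_mem ha.1, by rw [← conj_inv, ha.2]⟩

theorem mem_invPart {P : Sylow 3 G} {hc} {x : G} :
    x ∈ invPart S P hc ↔ x ∈ (P : Subgroup G) ∧ S.t * x * S.t⁻¹ = x⁻¹ := Iff.rfl

include hab in
/-- `t` and the torus normalize the Sylow subgroup above `U`. -/
theorem mem_normalizer_sylow {P : Sylow 3 G} (hP : S.threeSub ≤ (P : Subgroup G)) {g : G}
    (hg : g ∈ normalizer (S.threeSub : Set G)) : g ∈ normalizer ((P : Subgroup G) : Set G) := by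
  refine Sylow.smul_eq_iff_mem_normalizer.1 (sylow_unique_above S hab hP fun x hx => ?_)
  rw [Sylow.coe_subgroup_smul]
  exact ⟨g⁻¹ * x * g, hP ((mem_normalizer_iff''.1 hg x).1 hx), by
    show g * (g⁻¹ * x * g) * g⁻¹ = x; group⟩

include hord hab in
/-- `P = U V` and `V` is large. -/
theorem invPart_facts {P : Sylow 3 G} (hP : S.threeSub ≤ (P : Subgroup G)) :
    (∀ x ∈ (P : Subgroup G), ∃ a ∈ S.threeSub, ∃ b ∈ invPart S P (hab P), x = a * b) ∧
      3 ^ (2 * n + 1) < Nat.card (invPart S P (hab P)) := by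
  classical
  haveI : Fact (Nat.Prime 3) := ⟨Nat.prime_three⟩
  have htN : S.t ∈ normalizer ((P : Subgroup G) : Set G) :=
    mem_normalizer_sylow S hab hP (centralizer_le_normalizer _ S.t_mem_centralizer_three)
  obtain ⟨u, hu, hu1⟩ := S.exists_ne_one_threeSub
  have hodd : ∀ x ∈ (P : Subgroup G), Odd (orderOf x) := fun x hx => by
    obtain ⟨k, hk⟩ := P.2 ⟨x, hx⟩
    exact Odd.of_dvd_nat (Odd.pow (n := k) ⟨1, rfl⟩)
      (orderOf_dvd_of_pow_eq_one (congrArg Subtype.val hk))
  have hdec : ∀ x ∈ (P : Subgroup G), ∃ a ∈ S.threeSub, ∃ b ∈ invPart S P (hab P), x = a * b := by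
    intro x hx
    set y := S.t * x * S.t⁻¹ with hy
    have hyP : y ∈ (P : Subgroup G) := (mem_normalizer_iff.1 htN x).1 hx
    have hyt : S.t * y * S.t⁻¹ = x := by
      rw [hy, S.t_inv]
      calc S.t * (S.t * x * S.t) * S.t = S.t * S.t * x * (S.t * S.t) := by group
        _ = x := by rw [S.t_sq, one_mul, mul_one]
    have ha : x * y ∈ S.threeSub := by
      refine mem_three_of_cent S hu hu1 ?_ (hab P _ (mul_mem hx hyP) u (hP hu)) (hodd _ (mul_mem hx hyP))
      refine (mul_inv_eq_iff_eq_mul.1 ?_).symm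
      rw [ReeType.conj_mul', hyt, ← hy, hab P y hyP x hx]
    have hb : x * y⁻¹ ∈ invPart S P (hab P) := ⟨mul_mem hx (inv_mem hyP), by
      rw [ReeType.conj_mul', ← conj_inv, hyt, ← hy, mul_inv_rev, inv_inv]⟩
    obtain ⟨k, hk⟩ := exists_pow_eq_self_of_coprime (x := x) (n := 2)
      (Nat.coprime_two_left.2 (hodd x hx))
    refine ⟨(x * y) ^ k, pow_mem ha k, (x * y⁻¹) ^ k, pow_mem hb k, ?_⟩
    rw [← Commute.mul_pow (hab P _ (mul_mem hx hyP) _ (mul_mem hx (inv_mem hyP))),
      hab P x hx y hyP, show y * x * (x * y⁻¹) = y * x ^ 2 * y⁻¹ by simp only [pow_two, mul_assoc],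
      hab P y hyP _ (pow_mem hx 2), mul_inv_cancel_right, hk]
  refine ⟨hdec, ?_⟩
  by_contra hle
  push Not at hle
  choose a ha b hb hab' using hdec
  have h1 : Nat.card (P : Subgroup G) ≤ Nat.card (S.threeSub × invPart S P (hab P)) :=
    Nat.card_le_card_of_injective (fun x => (⟨a x x.2, ha x x.2⟩, ⟨b x x.2, hb x x.2⟩)) fun x y h => by
      simp only [Prod.mk.injEq, Subtype.mk.injEq] at h
      exact Subtype.ext (by rw [hab' x x.2, hab' y y.2, h.1, h.2])
  rw [card_sylow_three S hord, Nat.card_prod, S.card_threeSub] at h1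
  have h27 := S.q_facts.2.1
  set q := 3 ^ (2 * n + 1)
  have h2 : q * Nat.card (invPart S P (hab P)) ≤ q * q := Nat.mul_le_mul_left q hle
  nlinarith

variable [IsSimpleGroup G]
include hna hord hab

/-- `C(V)` has odd order. -/
theorem odd_cent_invPart {P : Sylow 3 G} (hP : S.threeSub ≤ (P : Subgroup G)) :
    Odd (Nat.card (centralizer (invPart S P (hab P) : Set G))) := by
  haveI : Fact (Nat.Prime 2) := ⟨Nat.prime_two⟩
  haveI := S.finite_L
  set V := invPart S P (hab P) with hV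
  rw [← Nat.not_even_iff_odd, even_iff_two_dvd]
  intro h
  obtain ⟨s, hs⟩ := exists_prime_orderOf_dvd_card' 2 h
  rw [← Subgroup.orderOf_coe] at hs
  obtain ⟨g, hg⟩ := S.exists_conj_t hna (x := (s : G)) (by rw [← sq, ← hs, pow_orderOf_eq_one])
    (fun e => by rw [e, orderOf_one] at hs; omega)
  have hle : V.map (MulAut.conj g⁻¹).toMonoidHom ≤ centralizer ({S.t} : Set G) := by
    rintro _ ⟨v, hv, rfl⟩
    rw [mem_centralizer_singleton_iff]
    show g⁻¹ * v * g⁻¹⁻¹ * S.t = S.t * (g⁻¹ * v * g⁻¹⁻¹)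
    have h := mem_centralizer_iff.1 s.2 v hv
    rw [← hg] at h
    calc g⁻¹ * v * g⁻¹⁻¹ * S.t = g⁻¹ * (v * (g * S.t * g⁻¹)) * g := by group
      _ = g⁻¹ * (g * S.t * g⁻¹ * v) * g := by rw [h]
      _ = _ := by group
  have hd := card_dvd_of_le hle
  rw [Subgroup.card_map_of_injective (MulAut.conj g⁻¹).injective, S.card_cent] at hd
  obtain ⟨k, hk⟩ := IsPGroup.iff_card.1 (P.2.to_le (show V ≤ (P : Subgroup G) from fun x hx => hx.1))
  have h3 : Nat.card V ∣ 3 ^ (2 * n + 1) := by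
    rw [hk] at hd ⊢
    refine (Nat.Coprime.pow_left k ?_).dvd_of_dvd_mul_right hd
    refine (Nat.Prime.coprime_iff_not_dvd Nat.prime_three).2 fun h => ?_
    obtain ⟨c, hc⟩ : 3 ∣ 3 ^ (2 * n + 1) * 3 ^ (2 * n + 1) := dvd_mul_of_dvd_left (dvd_pow_self 3 (by omega)) _
    have := S.q_facts.2.1
    have h9 : 1 ≤ 3 ^ (2 * n + 1) * 3 ^ (2 * n + 1) := Nat.one_le_iff_ne_zero.2 (by positivity)
    omega
  exact absurd (Nat.le_of_dvd (by positivity) h3) (not_le.2 (invPart_facts S hord hab hP).2)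

/-- `U` centralizes the core of `C(V)`. -/
theorem three_centralizes_core {P : Sylow 3 G} (hP : S.threeSub ≤ (P : Subgroup G)) :
    S.threeSub ≤ centralizer (((pPrimeCore 3 ↥(centralizer (invPart S P (hab P) : Set G))).map
      (centralizer (invPart S P (hab P) : Set G)).subtype) : Set G) := by
  haveI : Fact (Nat.Prime 3) := ⟨Nat.prime_three⟩
  haveI := S.finite_L
  set V := invPart S P (hab P)
  set K := centralizer (V : Set G) with hK
  set R := (pPrimeCore 3 K).map K.subtype with hR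
  have hRK : R ≤ K := map_subtype_le _
  have hRodd : Odd (Nat.card R) :=
    (odd_cent_invPart S hna hord hab hP).of_dvd_nat (card_dvd_of_le hRK)
  have hR3 : ¬ 3 ∣ Nat.card R := by
    rw [hR, Subgroup.card_map_of_injective (subtype_injective _)]
    exact Cfsg.Lib.Core.pPrimeCore_not_dvd 3 K
  -- normalizing `P` and commuting with `t` normalizes `V`
  have hnorm : ∀ g, g ∈ normalizer ((P : Subgroup G) : Set G) → g * S.t = S.t * g →
      g ∈ normalizer (R : Set G) := by
    intro g hgP hgt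
    have hgV : g ∈ normalizer (V : Set G) := by
      refine Cfsg.Lib.Fusion.le_normalizer_of_conj_mem fun x hx => ⟨(mem_normalizer_iff.1 hgP x).1 hx.1, ?_⟩
      calc S.t * (g * x * g⁻¹) * S.t⁻¹ = S.t * g * x * (S.t * g)⁻¹ := by group
        _ = g * (S.t * x * S.t⁻¹) * g⁻¹ := by rw [← hgt]; group
        _ = (g * x * g⁻¹)⁻¹ := by rw [hx.2]; group
    refine le_normalizer_core K 3 (Cfsg.Lib.Fusion.le_normalizer_of_conj_mem fun x hx => ?_)
    refine mem_centralizer_iff.2 fun v hv => ?_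
    have h := mem_centralizer_iff.1 hx (g⁻¹ * v * g) ((mem_normalizer_iff''.1 hgV v).1 hv)
    calc v * (g * x * g⁻¹) = g * (g⁻¹ * v * g * x) * g⁻¹ := by group
      _ = g * (x * (g⁻¹ * v * g)) * g⁻¹ := by rw [h]
      _ = g * x * g⁻¹ * v := by group
  have hUK : S.threeSub ≤ normalizer (R : Set G) := fun x hx =>
    hnorm x (le_normalizer (hP hx)) (S.t_threeSub hx).symm
  have hfix := cent_t_trivial S R hUK hRodd hR3
  have htN : S.t ∈ normalizer (R : Set G) :=
    hnorm _ (mem_normalizer_sylow S hab hP (centralizer_le_normalizer _ S.t_mem_centralizer_three)) rfl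
  have hinv := inverted_of_fpf S.t_sq R htN hfix
  have hRc : ∀ a ∈ R, ∀ b ∈ R, a * b = b * a := fun a ha b hb => by
    have h := hinv _ (mul_mem ha hb)
    rw [ReeType.conj_mul', hinv a ha, hinv b hb, mul_inv_rev] at h
    calc a * b = (b⁻¹ * a⁻¹)⁻¹ := by group
      _ = (a⁻¹ * b⁻¹)⁻¹ := by rw [h]
      _ = b * a := by group
  set A := (zpowers S.D.a).map S.φ with hA
  have hAcard : Nat.card A = 2 * T - 1 := by
    rw [hA, Subgroup.card_map_of_injective S.inj, Nat.card_zpowers, S.D.orderOf_a]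
  have hAU : A ≤ normalizer (S.threeSub : Set G) := by
    rintro _ ⟨s, hs, rfl⟩
    refine Cfsg.Lib.Fusion.le_normalizer_of_conj_mem fun x hx => ?_
    obtain ⟨u, hu, rfl⟩ := hx
    exact ⟨s * u * s⁻¹, S.D.U_normal s (zpowers_le.2 S.D.a_mem hs) u hu, by
      rw [map_mul, map_mul, map_inv]⟩
  have hAR : A ≤ normalizer (R : Set G) := fun g hg => by
    obtain ⟨s, hs, rfl⟩ := hg
    exact hnorm _ (mem_normalizer_sylow S hab hP (hAU ⟨s, hs, rfl⟩)) (S.comm s).symm
  have hT7 := S.q_facts.2.2.2.1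
  have hAodd : Odd (Nat.card A) := by rw [hAcard, Nat.odd_iff]; omega
  rcases centralizes_or_pow_le hUK hAR hAU hRc hRodd hR3 (fun a ha b hb => S.threeSub_comm ha hb)
      (fun u hu => S.threeSub_cube hu) hAodd (by
        rintro _ ⟨s, hs, rfl⟩ hs1 _ ⟨u, hu, rfl⟩ h
        have hu1 : u ∈ zpowers S.D.a := S.D.cent_a s hs (fun e => hs1 (by rw [e, map_one])) u
          (S.inj (by rw [map_mul, map_mul]; exact h.symm))
        have h1 : orderOf u ∣ 2 * T - 1 := by
          rw [← S.D.orderOf_a]; exact orderOf_dvd_of_mem_zpowers hu1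
        have h2 : orderOf u ∣ 3 := orderOf_dvd_of_pow_eq_one (S.D.U_cube u hu)
        rcases (Nat.dvd_prime Nat.prime_three).1 h2 with e | e
        · rw [orderOf_eq_one_iff.1 e, map_one]
        · exfalso
          rw [e] at h1
          have := S.hT
          have := S.q_facts.2.2.2.2.2
          omega) with h | h
  · exact h
  exfalso
  rw [hAcard] at h
  set q := 3 ^ (2 * n + 1) with hq
  have hd : Nat.card R ∣ (q ^ 3 + 1) * (q - 1) := by
    refine Nat.Coprime.dvd_of_dvd_mul_left (k := Nat.card R) (m := q ^ 3) ?_ ?_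
    · rw [hq, ← pow_mul]
      exact (Nat.Coprime.pow_left _ ((Nat.Prime.coprime_iff_not_dvd Nat.prime_three).2 hR3)).symm
    · rw [← mul_assoc, ← hord]; exact card_subgroup_dvd_card R
  have hle := Nat.le_of_dvd (Nat.mul_pos (by positivity) (by have := S.q_facts.2.1; omega)) hd
  have hbound := order_bound (h := 2 * T - 1) (by omega)
  have hqT : 2 * (2 * T - 1) + 1 = q := by have := S.hT; omega
  rw [hqT] at hbound
  have h1 : (q ^ 3 + 1) * (q - 1) ≤ 2 * q ^ 4 := by
    have : 1 ≤ q ^ 3 := Nat.one_le_pow _ _ (by omega)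
    calc (q ^ 3 + 1) * (q - 1) ≤ (2 * q ^ 3) * q := Nat.mul_le_mul (by omega) (Nat.sub_le _ _)
      _ = 2 * q ^ 4 := by ring
  omega

/-- The centralizer of a nontrivial element of `U` normalizes the Sylow subgroup. -/
theorem cent_three_le {P : Sylow 3 G} (hP : S.threeSub ≤ (P : Subgroup G)) {u : G}
    (hu : u ∈ S.threeSub) (hu1 : u ≠ 1) :
    centralizer ({u} : Set G) ≤ normalizer ((P : Subgroup G) : Set G) := by
  haveI : Fact (Nat.Prime 3) := ⟨Nat.prime_three⟩
  haveI : Fact (Nat.Prime 2) := ⟨Nat.prime_two⟩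
  set C := centralizer ({u} : Set G) with hC
  have ht : S.t ∈ C := mem_centralizer_singleton_iff.2 (S.t_threeSub hu)
  obtain ⟨R, hR⟩ := S.sylow_two_order_two C ht fun g hg hgt =>
    S.cent_t_three hu hu1 hgt (mem_centralizer_singleton_iff.1 hg)
  obtain ⟨O, hOn, hOi, hOodd, hO⟩ := ReeType.exists_odd_complement R hR (by rw [orderOf_mk, S.orderOf_t])
  haveI := hOn
  haveI : Group.IsSolvable C := by
    haveI : Group.IsSolvable O := Cfsg.Agent.S0205.result hOodd
    haveI : IsCyclic (C ⧸ O) := by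
      haveI : Fact (Nat.card (C ⧸ O)).Prime := ⟨by rw [← Subgroup.index_eq_card, hOi]; norm_num⟩
      exact isCyclic_of_prime_card (p := Nat.card (C ⧸ O)) rfl
    haveI : Group.IsSolvable (C ⧸ O) := by
      letI : CommGroup (C ⧸ O) := IsCyclic.commGroup
      exact Group.isSolvable_of_comm mul_comm
    exact Group.isSolvable_of_ker_le_range O.subtype (QuotientGroup.mk' O) (by simp)
  have hPC : (P : Subgroup G) ≤ C := fun x hx => mem_centralizer_singleton_iff.2 (hab P x hx u (hP hu))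
  let Q : Sylow 3 C := P.subtype hPC
  have hQc : ∀ a ∈ (Q : Subgroup C), ∀ b ∈ (Q : Subgroup C), a * b = b * a := fun a ha b hb =>
    Subtype.ext (hab P _ ha _ hb)
  set V := invPart S P (hab P)
  obtain ⟨hdec, hVbig⟩ := invPart_facts S hord hab hP
  obtain ⟨v, hv, hv1⟩ : ∃ v ∈ V, v ≠ 1 := by
    by_contra hcon
    push Not at hcon
    rw [show invPart S P (hab P) = ⊥ from (eq_bot_iff_forall _).2 hcon, card_bot] at hVbig
    have := S.q_facts.2.1
    omega
  set M := (pPrimeCore 3 C).map C.subtype with hM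
  have hM3 : ¬ 3 ∣ Nat.card M := by
    rw [hM, Subgroup.card_map_of_injective (subtype_injective _)]
    exact Cfsg.Lib.Core.pPrimeCore_not_dvd 3 C
  have hMC : ∀ g ∈ C, g ∈ normalizer (M : Set G) := fun g hg => le_normalizer_core C 3 (le_normalizer hg)
  have hinvV : ∀ m ∈ M, ∀ x ∈ V, x * m * x⁻¹ ∈ M := fun m hm x hx =>
    (mem_normalizer_iff.1 (hMC x (hPC hx.1)) m).1 hm
  have hModd : Odd (Nat.card M) := by
    rw [← Nat.not_even_iff_odd, even_iff_two_dvd]
    intro h2
    obtain ⟨s, hs⟩ := exists_prime_orderOf_dvd_card' 2 h2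
    have hsC : (s : G) ∈ C := map_subtype_le _ s.2
    have hso : orderOf (⟨s, hsC⟩ : C) = 2 := by rw [orderOf_mk, Subgroup.orderOf_coe, hs]
    obtain ⟨R', hR'⟩ := (IsPGroup.of_card (n := 1) (show Nat.card (zpowers (⟨s, hsC⟩ : C)) = 2 ^ 1 by
      rw [Nat.card_zpowers, hso, pow_one])).exists_le_sylow
    obtain ⟨c, hc⟩ := MulAction.exists_smul_eq C R' R
    have hmem : c * ⟨s, hsC⟩ * c⁻¹ ∈ (R : Subgroup C) := by
      rw [← hc, Sylow.coe_subgroup_smul]
      exact ⟨_, hR' (mem_zpowers _), rfl⟩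
    classical
    rw [hR, (isOfFinOrder_of_finite _).mem_zpowers_iff_mem_range_orderOf, orderOf_mk, S.orderOf_t] at hmem
    obtain ⟨i, hi, he⟩ := Finset.mem_image.mp hmem
    rw [Finset.mem_range] at hi
    have htM : S.t ∈ M := by
      interval_cases i
      · rw [pow_zero] at he
        rw [conj_eq_one_iff.1 he.symm, orderOf_one] at hso
        omega
      · rw [pow_one] at he
        rw [show S.t = (c : G) * s * (c : G)⁻¹ from congrArg Subtype.val he]
        exact (mem_normalizer_iff.1 (hMC c c.2) s).1 s.2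
    have h1 : S.t * (v * S.t⁻¹ * v⁻¹) ∈ M := mul_mem htM (hinvV _ (inv_mem htM) v hv)
    rw [show S.t * (v * S.t⁻¹ * v⁻¹) = S.t * v * S.t⁻¹ * v⁻¹ by group, hv.2] at h1
    obtain ⟨k, hk⟩ := P.2 ⟨v⁻¹ * v⁻¹, mul_mem (inv_mem hv.1) (inv_mem hv.1)⟩
    have h3 : v⁻¹ * v⁻¹ = 1 := by
      rw [← orderOf_eq_one_iff]
      exact Nat.dvd_one.1 ((Nat.Coprime.pow_left k
        ((Nat.Prime.coprime_iff_not_dvd Nat.prime_three).2 hM3)).gcd_eq_one ▸
        Nat.dvd_gcd (orderOf_dvd_of_pow_eq_one (congrArg Subtype.val hk)) (Subgroup.orderOf_dvd_natCard _ h1))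
    obtain ⟨j, hj⟩ := P.2 ⟨v, hv.1⟩
    have hv2 : v ^ 2 = 1 := by rw [sq]; exact inv_eq_one.1 (by rw [mul_inv_rev]; exact h3)
    refine hv1 (orderOf_eq_one_iff.1 (Nat.dvd_one.1 ?_))
    rw [← (Nat.Coprime.pow_left j (show Nat.Coprime 3 2 by norm_num)).gcd_eq_one]
    exact Nat.dvd_gcd (orderOf_dvd_of_pow_eq_one (congrArg Subtype.val hj)) (orderOf_dvd_of_pow_eq_one hv2)
  have hfix : ∀ m ∈ M, m * S.t = S.t * m → m = 1 := cent_t_trivial S M
    (fun x hx => hMC x (hPC (hP hx))) hModd hM3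
  have hinv := inverted_of_fpf S.t_sq M (hMC _ ht) hfix
  have hMV : ∀ m ∈ M, ∀ x ∈ V, x * m = m * x := by
    intro m hm x hx
    have h := hinv _ (hinvV m hm x hx)
    rw [ReeType.conj_mul', ReeType.conj_mul', ← conj_inv, hx.2, hinv m hm, inv_inv] at h
    have h2 : x * x * m⁻¹ = m⁻¹ * (x * x) := by
      calc x * x * m⁻¹ = x * (x * m⁻¹ * x⁻¹) * x := by group
        _ = x * (x * m * x⁻¹)⁻¹ * x := by group
        _ = x * (x⁻¹ * m⁻¹ * x) * x := by rw [h]
        _ = m⁻¹ * (x * x) := by group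
    obtain ⟨k, hk⟩ := exists_pow_eq_self_of_coprime (x := x) (n := 2) (by
      obtain ⟨j, hj⟩ := P.2 ⟨x, hx.1⟩
      exact Nat.Coprime.coprime_dvd_right (orderOf_dvd_of_pow_eq_one (congrArg Subtype.val hj))
        (Nat.Coprime.pow_right j (by norm_num)))
    have hc : Commute (x ^ 2) m⁻¹ := by rw [sq]; exact h2
    rw [← hk]
    exact ((hc.inv_right).pow_left k).eq.trans (by rw [inv_inv]) |>.trans rfl |> fun e => by simpa using e
  -- `U` centralizes `M`
  set K := centralizer (V : Set G) with hK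
  haveI : Group.IsSolvable K := Cfsg.Agent.S0205.result (odd_cent_invPart S hna hord hab hP)
  have hPK : (P : Subgroup G) ≤ K := fun x hx => mem_centralizer_iff.2 fun y hy => hab P y hy.1 x hx
  let QK : Sylow 3 K := P.subtype hPK
  have hQKc : ∀ a ∈ (QK : Subgroup K), ∀ b ∈ (QK : Subgroup K), a * b = b * a := fun a ha b hb =>
    Subtype.ext (hab P _ ha _ hb)
  have hMK : M ≤ K := fun m hm => mem_centralizer_iff.2 fun x hx => hMV m hm x hx
  have hUM : ∀ w ∈ S.threeSub, ∀ m ∈ M, w * m = m * w := by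
    intro w hw m hm
    have hR := commutator_mem_core QK hQKc (M.subgroupOf K)
      (by rw [Nat.card_congr (subgroupOfEquivOfLe hMK).toEquiv]; exact hM3)
      (fun x hx => Cfsg.Lib.Fusion.le_normalizer_of_conj_mem fun y hy =>
        (mem_normalizer_iff.1 (hMC _ (hPC hx)) _).1 hy)
      (x := ⟨w, hPK (hP hw)⟩) (m := ⟨m, hMK hm⟩) (hP hw) hm
    set c := w * m * w⁻¹ * m⁻¹ with hc
    have hcR : c ∈ (pPrimeCore 3 K).map K.subtype := ⟨_, hR, rfl⟩
    have hwc : Commute w c :=
      (mem_centralizer_iff.1 (three_centralizes_core S hna hord hab hP hw) c hcR).symm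
    have h1 : w * m * w⁻¹ = c * m := by rw [hc]; group
    have h2 : ∀ i : ℕ, w ^ i * m * (w ^ i)⁻¹ = c ^ i * m := by
      intro i
      induction i with
      | zero => simp
      | succ i ih =>
        calc w ^ (i + 1) * m * (w ^ (i + 1))⁻¹ = w * (w ^ i * m * (w ^ i)⁻¹) * w⁻¹ := by
              rw [pow_succ']; group
          _ = w * (c ^ i * m) * w⁻¹ := by rw [ih]
          _ = c ^ i * (w * m * w⁻¹) := by rw [← mul_assoc w, (hwc.pow_right i).eq]; group
          _ = c ^ (i + 1) * m := by rw [h1, ← mul_assoc, ← pow_succ]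
    have h3 := h2 3
    rw [S.threeSub_cube hw] at h3
    have hc3 : c ^ 3 = 1 := by simpa using h3
    have hcM : c ∈ M := mul_mem ((mem_normalizer_iff.1 (hMC _ (hPC (hP hw))) _).1 hm) (inv_mem hm)
    have hc1 : c = 1 := by
      rw [← orderOf_eq_one_iff]
      exact Nat.dvd_one.1 (((Nat.Prime.coprime_iff_not_dvd Nat.prime_three).2 hM3).gcd_eq_one ▸
        Nat.dvd_gcd (orderOf_dvd_of_pow_eq_one hc3) (Subgroup.orderOf_dvd_natCard _ hcM))
    rw [hc1, one_mul] at h1
    exact mul_inv_eq_iff_eq_mul.1 h1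
  have hnorm := normal_of_centralizes_core Q hQc fun x hx => mem_centralizer_iff.2 fun m hm => by
    obtain ⟨a, ha, b, hb, hxab⟩ := hdec _ hx
    refine Subtype.ext ?_
    show (m : G) * (x : G) = (x : G) * (m : G)
    rw [show ((x : C) : G) = a * b from hxab, ← mul_assoc, ← hUM a ha m ⟨m, hm, rfl⟩, mul_assoc, ← hMV m ⟨m, hm, rfl⟩ b hb, mul_assoc]
  intro g hg
  refine Cfsg.Lib.Fusion.le_normalizer_of_conj_mem fun x hx => ?_
  exact hnorm.conj_mem ⟨x, hPC hx⟩ hx ⟨g, hg⟩

/-- An element whose centralizer normalizes `P` lies in no other Sylow subgroup. -/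
theorem eq_of_cent_le {P P' : Sylow 3 G} {y : G}
    (hC : centralizer ({y} : Set G) ≤ normalizer ((P : Subgroup G) : Set G))
    (hy' : y ∈ (P' : Subgroup G)) : P' = P := by
  haveI : Fact (Nat.Prime 3) := ⟨Nat.prime_three⟩
  have hle : (P' : Subgroup G) ≤ normalizer ((P : Subgroup G) : Set G) := fun x hx =>
    hC (mem_centralizer_singleton_iff.2 (hab P' x hx y hy'))
  have hsup := P'.2.to_sup_of_normal_right' P.2 hle
  have h : (P' : Subgroup G) ≤ (P : Subgroup G) := le_sup_left.trans (P.3 hsup le_sup_right).le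
  exact Sylow.ext (P'.3 P.2 h).symm

/-- The centralizer of a nontrivial element of the Sylow subgroup normalizes it. -/
theorem cent_le_normalizer {P : Sylow 3 G} (hP : S.threeSub ≤ (P : Subgroup G)) {y : G}
    (hy : y ∈ (P : Subgroup G)) (hy1 : y ≠ 1) :
    centralizer ({y} : Set G) ≤ normalizer ((P : Subgroup G) : Set G) := by
  haveI : Fact (Nat.Prime 3) := ⟨Nat.prime_three⟩
  haveI : Fact (Nat.Prime 2) := ⟨Nat.prime_two⟩
  haveI := S.finite_L
  set C := centralizer ({y} : Set G) with hC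
  obtain ⟨i, hi⟩ := P.2 ⟨y, hy⟩
  have hi' : y ^ 3 ^ i = 1 := congrArg Subtype.val hi
  by_cases heven : 2 ∣ Nat.card C
  · obtain ⟨s, hs⟩ := exists_prime_orderOf_dvd_card' 2 heven
    rw [← Subgroup.orderOf_coe] at hs
    obtain ⟨g, hg⟩ := S.exists_conj_t hna (x := (s : G)) (by rw [← sq, ← hs, pow_orderOf_eq_one])
      (fun e => by rw [e, orderOf_one] at hs; omega)
    set y' := g⁻¹ * y * g with hy'
    have hy't : y' * S.t = S.t * y' := by
      have h := mem_centralizer_singleton_iff.1 s.2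
      rw [← hg] at h
      calc y' * S.t = g⁻¹ * (y * (g * S.t * g⁻¹)) * g := by rw [hy']; group
        _ = g⁻¹ * (g * S.t * g⁻¹ * y) * g := by rw [h]
        _ = S.t * y' := by rw [hy']; group
    have hy'pow : y' ^ 3 ^ i = 1 := by
      rw [hy', show g⁻¹ * y * g = g⁻¹ * y * (g⁻¹)⁻¹ by group, conj_pow, hi']; group
    obtain ⟨l, hl⟩ := S.cent y' hy't
    have hyl : y' = S.φ l := by
      refine hl.resolve_right fun e => ?_
      rw [e, (show Commute S.t (S.φ l) from S.comm l).mul_pow, ← map_pow] at hy'pow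
      obtain ⟨c, hc⟩ : Odd (3 ^ i) := Odd.pow ⟨1, rfl⟩
      rw [hc, pow_succ, pow_mul, sq, S.t_sq, one_pow, one_mul] at hy'pow
      exact S.t_mul_φ_ne (l ^ (2 * c + 1)) 1 (by rw [map_one]; exact hy'pow)
    have hl3 : l ^ 3 ^ i = 1 := S.inj (by rw [map_pow, ← hyl, hy'pow, map_one])
    -- `U` is a Sylow subgroup of `L`
    obtain ⟨PL, hPL⟩ := (IsPGroup.of_card S.D.card_U : IsPGroup 3 S.D.U).exists_le_sylow
    have hUeq : S.D.U = (PL : Subgroup L) := by
      obtain ⟨k, hk⟩ := IsPGroup.iff_card.1 PL.2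
      refine eq_of_le_of_card_ge hPL ?_
      rw [hk, S.D.card_U]
      refine Nat.le_of_dvd (by positivity) ?_
      have hd : 3 ^ k ∣ 3 ^ (2 * n + 1) * (3 ^ (2 * n + 1) * 3 ^ (2 * n + 1) - 1) := by
        rw [← S.D.card_L, ← hk]
        exact dvd_mul_of_dvd_right (card_subgroup_dvd_card _) 2
      refine (Nat.Coprime.pow_left k ?_).dvd_of_dvd_mul_right hd
      refine (Nat.Prime.coprime_iff_not_dvd Nat.prime_three).2 fun h => ?_
      obtain ⟨c, hc⟩ : 3 ∣ 3 ^ (2 * n + 1) * 3 ^ (2 * n + 1) :=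
        dvd_mul_of_dvd_left (dvd_pow_self 3 (by omega)) _
      have h9 : 1 ≤ 3 ^ (2 * n + 1) * 3 ^ (2 * n + 1) := Nat.one_le_iff_ne_zero.2 (by positivity)
      omega
    obtain ⟨j, -, hj⟩ := (Nat.dvd_prime_pow Nat.prime_three).1 (orderOf_dvd_of_pow_eq_one hl3)
    obtain ⟨PL', hPL'⟩ := (IsPGroup.of_card (n := j) (by rw [Nat.card_zpowers, hj]) :
      IsPGroup 3 (zpowers l)).exists_le_sylow
    obtain ⟨b, hb⟩ := MulAction.exists_smul_eq L PL' PL
    have hbl : b * l * b⁻¹ ∈ S.D.U := by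
      rw [hUeq, ← hb, Sylow.coe_subgroup_smul]
      exact ⟨l, hPL' (mem_zpowers l), rfl⟩
    set h := g * (S.φ b)⁻¹ with hh
    set u := S.φ (b * l * b⁻¹) with hudef
    have hu : u ∈ S.threeSub := ⟨_, hbl, rfl⟩
    have hyu : y = h * u * h⁻¹ := by
      rw [hudef, hh, map_mul, map_mul, map_inv, ← hyl, hy']
      group
    have hu1 : u ≠ 1 := fun e => hy1 (by rw [hyu, e]; group)
    have hgood : centralizer ({y} : Set G) ≤ normalizer ((h • P : Sylow 3 G) : Subgroup G) := by
      intro x hx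
      have hx' : h⁻¹ * x * h ∈ centralizer ({u} : Set G) := by
        rw [mem_centralizer_singleton_iff]
        have hxy := mem_centralizer_singleton_iff.1 hx
        rw [hyu] at hxy
        calc h⁻¹ * x * h * u = h⁻¹ * (x * (h * u * h⁻¹)) * h := by group
          _ = h⁻¹ * (h * u * h⁻¹ * x) * h := by rw [hxy]
          _ = u * (h⁻¹ * x * h) := by group
      have hN := Sylow.smul_eq_iff_mem_normalizer.2 (cent_three_le S hna hord hab hP hu hu1 hx')
      refine Sylow.smul_eq_iff_mem_normalizer.1 ?_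
      calc x • h • P = h • (h⁻¹ * x * h) • P := by rw [smul_smul, smul_smul]; congr 1; group
        _ = h • P := by rw [hN]
    rw [eq_of_cent_le S hna hord hab hgood hy]
    exact hgood
  · haveI : Group.IsSolvable C :=
      Cfsg.Agent.S0205.result (Nat.odd_iff.2 (by omega))
    have hPC : (P : Subgroup G) ≤ C := fun x hx => mem_centralizer_singleton_iff.2 (hab P x hx y hy)
    let Q : Sylow 3 C := P.subtype hPC
    have hQc : ∀ a ∈ (Q : Subgroup C), ∀ b ∈ (Q : Subgroup C), a * b = b * a := fun a ha b hb =>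
      Subtype.ext (hab P _ ha _ hb)
    set M := (pPrimeCore 3 C).map C.subtype with hM
    have hM3 : ¬ 3 ∣ Nat.card M := by
      rw [hM, Subgroup.card_map_of_injective (subtype_injective _)]
      exact Cfsg.Lib.Core.pPrimeCore_not_dvd 3 C
    have hMC : ∀ g ∈ C, g ∈ normalizer (M : Set G) := fun g hg => le_normalizer_core C 3 (le_normalizer hg)
    haveI : IsMulCommutative S.threeSub := ⟨⟨fun a b => Subtype.ext (S.threeSub_comm a.2 b.2)⟩⟩
    have hMP : M ≤ centralizer ((P : Subgroup G) : Set G) := by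
      refine (Coprime.le_iSup_centralizer_of_not_isCyclic (threeSub_noncyclic S)
        (fun x hx => hMC x (hPC (hP hx))) ?_).trans (iSup_le fun a m hm => mem_centralizer_iff.2 fun x hx => ?_)
      · rw [S.card_threeSub]
        exact Nat.Coprime.pow_left _ ((Nat.Prime.coprime_iff_not_dvd Nat.prime_three).2 hM3)
      have hmN := cent_three_le S hna hord hab hP a.2.1 a.2.2 hm.2
      have h1 : ⁅x, m⁆ ∈ (P : Subgroup G) := by
        rw [commutatorElement_def, mul_assoc, mul_assoc, ← mul_assoc m]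
        exact mul_mem hx ((mem_normalizer_iff.1 hmN _).1 (inv_mem hx))
      have h2 : ⁅x, m⁆ ∈ M :=
        mul_mem ((mem_normalizer_iff.1 (hMC x (hPC hx)) m).1 hm.1) (inv_mem hm.1)
      obtain ⟨k, hk⟩ := P.2 ⟨_, h1⟩
      refine commutatorElement_eq_one_iff_mul_comm.1 ?_
      rw [← orderOf_eq_one_iff]
      exact Nat.dvd_one.1 ((Nat.Coprime.pow_left k
        ((Nat.Prime.coprime_iff_not_dvd Nat.prime_three).2 hM3)).gcd_eq_one ▸
        Nat.dvd_gcd (orderOf_dvd_of_pow_eq_one (congrArg Subtype.val hk)) (Subgroup.orderOf_dvd_natCard _ h2))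
    have hnorm := normal_of_centralizes_core Q hQc fun x hx => mem_centralizer_iff.2 fun m hm =>
      Subtype.ext (mem_centralizer_iff.1 (hMP ⟨m, hm, rfl⟩) _ hx).symm
    intro g hg
    refine Cfsg.Lib.Fusion.le_normalizer_of_conj_mem fun x hx => ?_
    exact hnorm.conj_mem ⟨x, hPC hx⟩ hx ⟨g, hg⟩

/-- The Sylow three-subgroups intersect trivially. -/
theorem sylow_three_ti {P P' : Sylow 3 G} {y : G} (hy : y ∈ (P : Subgroup G))
    (hy' : y ∈ (P' : Subgroup G)) (hy1 : y ≠ 1) : P' = P := by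
  haveI : Fact (Nat.Prime 3) := ⟨Nat.prime_three⟩
  obtain ⟨P₀, hP₀⟩ := S.isPGroup_threeSub.exists_le_sylow
  obtain ⟨g, rfl⟩ := MulAction.exists_smul_eq G P₀ P
  have hy0 : g⁻¹ * y * g ∈ (P₀ : Subgroup G) := by
    rw [Sylow.coe_subgroup_smul] at hy
    obtain ⟨z, hz, rfl⟩ := hy
    show g⁻¹ * (g * z * g⁻¹) * g ∈ (P₀ : Subgroup G)
    rwa [show g⁻¹ * (g * z * g⁻¹) * g = z by group]
  have hy0' : g⁻¹ * y * g ∈ ((g⁻¹ • P' : Sylow 3 G) : Subgroup G) := by
    rw [Sylow.coe_subgroup_smul]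
    exact ⟨y, hy', by show g⁻¹ * y * g⁻¹⁻¹ = g⁻¹ * y * g; group⟩
  have hne : g⁻¹ * y * g ≠ 1 := fun e => hy1 (by
    calc y = g * (g⁻¹ * y * g) * g⁻¹ := by group
      _ = 1 := by rw [e]; group)
  rw [← eq_of_cent_le S hna hord hab (cent_le_normalizer S hna hord hab hP₀ hy0 hne) hy0',
    smul_inv_smul]

end Cfsg.Lib.AllAb
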